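import Mathlib

/-!
Groups of linear maps over a finite field `F` containing the determinant-one linear maps of an
extension field `K` of prime degree: transitivity, the ring of left multipliers of the root group
of a `K`-line, and the passage from that ring to all transvections.
-/

set_option autoImplicit false
set_option linter.unusedSectionVars false
set_option linter.style.haveILetI false

namespace CfsgLib.ExtFieldMax

open Module

variable {F K V : Type*} [Field F] [Fintype F] [Field K] [Algebra F K] [AddCommGroup V]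
  [Module F V] [Module K V] [IsScalarTower F K V] [FiniteDimensional F V]
  [FiniteDimensional F K] [FiniteDimensional K V]

/-- `G` contains the `K`-linear maps of `F`-determinant one. -/
structure Hyp (G : Subgroup (V ≃ₗ[F] V)) (K : Type*) [Field K] [Algebra F K] [Module K V]
    [IsScalarTower F K V] : Prop where
  prime : (finrank F K).Prime
  two_le : 2 ≤ finrank K V
  mem : ∀ e : V ≃ₗ[K] V, Algebra.norm F (LinearMap.det (e : V →ₗ[K] V)) = 1 →
    e.restrictScalars F ∈ G

variable (K) in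
/-- `g` is semilinear over `K`. -/
def IsSemi (g : V ≃ₗ[F] V) : Prop := ∀ k : K, ∃ k' : K, ∀ v, g (k • v) = k' • g v

/-- `G` contains the map `x ↦ x + θ(x) a`. -/
def HasTv (G : Subgroup (V ≃ₗ[F] V)) (a : V) (θ : V →ₗ[F] F) : Prop :=
  ∃ g ∈ G, ∀ x, g x = x + θ x • a

lemma exists_functional {W : Submodule K V} {x : V} (hx : x ∉ W) :
    ∃ χ : V →ₗ[K] K, (∀ w ∈ W, χ w = 0) ∧ χ x = 1 := by
  obtain ⟨χ, h1, h2⟩ := Submodule.exists_dual_map_eq_bot_of_notMem hx inferInstance
  refine ⟨(χ x)⁻¹ • χ, fun w hw => ?_, by simp [h1]⟩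
  have h : χ w ∈ W.map χ := ⟨w, hw, rfl⟩
  rw [h2, Submodule.mem_bot] at h
  simp [h]

lemma exists_functional_one {a x : V} (hx : x ∉ K ∙ a) :
    ∃ χ : V →ₗ[K] K, χ a = 0 ∧ χ x = 1 := by
  obtain ⟨χ, h1, h2⟩ := exists_functional hx
  exact ⟨χ, h1 a (Submodule.mem_span_singleton_self a), h2⟩

lemma exists_notMem_span (h : 2 ≤ finrank K V) (a : V) : ∃ x, x ∉ K ∙ a := by
  by_contra hc
  simp only [not_exists, not_not] at hc
  have h1 : finrank K (K ∙ a) ≤ 1 := by
    have h2 := finrank_span_le_card (R := K) ({a} : Set V)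
    rwa [Set.toFinset_singleton, Finset.card_singleton] at h2
  rw [Submodule.eq_top_iff'.mpr hc, finrank_top] at h1
  omega

namespace Hyp

variable {G : Subgroup (V ≃ₗ[F] V)} (h : Hyp G K)
include h

lemma mem_transvection {χ : V →ₗ[K] K} {a : V} (ha : χ a = 0) :
    ∃ g ∈ G, ∀ x, g x = x + χ x • a := by
  refine ⟨(LinearEquiv.transvection ha).restrictScalars F, h.mem _ ?_, fun x => ?_⟩
  · simp [ha]
  · rfl

lemma exists_map {a b : V} (ha : a ≠ 0) (hb : b ≠ 0) :
    ∃ g ∈ G, g a = b ∧ ∀ (k : K) (x : V), g (k • x) = k • g x := by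
  have key : ∀ a b : V, a ≠ 0 → b ∉ K ∙ a →
      ∃ g ∈ G, g a = b ∧ ∀ (k : K) (x : V), g (k • x) = k • g x := by
    intro a b ha hb
    have hna : a ∉ K ∙ (b - a) := by
      rw [Submodule.mem_span_singleton]
      rintro ⟨k, hk⟩
      rcases eq_or_ne k 0 with rfl | hk0
      · exact ha (by rw [← hk, zero_smul])
      · refine hb (Submodule.mem_span_singleton.mpr ⟨k⁻¹ + 1, ?_⟩)
        rw [add_smul, one_smul]
        nth_rw 1 [← hk]
        rw [inv_smul_smul₀ hk0, sub_add_cancel]
    obtain ⟨χ, h1, h2⟩ := exists_functional_one hna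
    obtain ⟨g, hg, hgx⟩ := h.mem_transvection h1
    refine ⟨g, hg, by rw [hgx, h2, one_smul, add_sub_cancel], fun k x => ?_⟩
    rw [hgx, hgx, map_smul, smul_eq_mul, mul_smul, smul_add]
  by_cases hab : b ∈ K ∙ a
  · obtain ⟨k, rfl⟩ := Submodule.mem_span_singleton.mp hab
    have hk : k ≠ 0 := fun hk => hb (by simp [hk])
    obtain ⟨w, hw⟩ := exists_notMem_span h.two_le a
    have hw0 : w ≠ 0 := fun hw0 => hw (by simp [hw0])
    obtain ⟨g₁, hg₁, e₁, l₁⟩ := key a w ha hw
    obtain ⟨g₂, hg₂, e₂, l₂⟩ := key w (k • a) hw0 (by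
      rw [Submodule.mem_span_singleton]
      rintro ⟨j, hj⟩
      rcases eq_or_ne j 0 with rfl | hj0
      · exact smul_ne_zero hk ha (by rw [← hj, zero_smul])
      · exact hw (Submodule.mem_span_singleton.mpr
          ⟨j⁻¹ * k, by rw [mul_smul, ← hj, inv_smul_smul₀ hj0]⟩))
    exact ⟨g₂ * g₁, G.mul_mem hg₂ hg₁, by simp [e₁, e₂], fun j x => by simp [l₁, l₂]⟩
  · exact key a b ha hab

/-- If some member of `G` is not semilinear, every non-scalar of `K` is moved off some line. -/
lemma exists_off (hns : ∃ g ∈ G, ¬ IsSemi K g) {c : K} (hc : c ∉ Set.range (algebraMap F K)) :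
    ∃ g ∈ G, ∃ u : V, g (c • u) ∉ K ∙ g u := by
  by_contra hh
  simp only [not_exists, not_and, not_not] at hh
  let E : Subalgebra F K :=
    { carrier := {d | ∀ g ∈ G, ∀ u : V, ∃ k : K, g (d • u) = k • g u}
      mul_mem' := fun {d e} hd he g hg u => by
        obtain ⟨k, hk⟩ := hd g hg (e • u)
        obtain ⟨j, hj⟩ := he g hg u
        exact ⟨k * j, by rw [mul_smul, hk, hj, mul_smul]⟩
      add_mem' := fun {d e} hd he g hg u => by
        obtain ⟨k, hk⟩ := hd g hg u
        obtain ⟨j, hj⟩ := he g hg u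
        exact ⟨k + j, by rw [add_smul, map_add, hk, hj, add_smul]⟩
      algebraMap_mem' := fun f g _ u =>
        ⟨algebraMap F K f, by rw [algebraMap_smul, map_smul, algebraMap_smul]⟩ }
  have hcE : c ∈ E := fun g hg u => by
    obtain ⟨k, hk⟩ := Submodule.mem_span_singleton.mp (hh g hg u)
    exact ⟨k, hk.symm⟩
  rcases (Subalgebra.isSimpleOrder_of_finrank_prime F K h.prime).eq_bot_or_eq_top E with hE | hE
  · rw [hE] at hcE
    exact hc (Algebra.mem_bot.mp hcE)
  obtain ⟨g, hg, hns⟩ := hns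
  refine hns fun k => ?_
  have hline : ∀ v, ∃ j : K, g (k • v) = j • g v := fun v =>
    (show k ∈ E by rw [hE]; exact Algebra.mem_top) g hg v
  choose f hf using hline
  obtain ⟨w₀, hw₀⟩ := exists_notMem_span h.two_le (0 : V)
  have hind : ∀ v w : V, v ≠ 0 → g w ∉ K ∙ g v → f w = f v := by
    intro v w hv hw
    have h1 : g (k • (v + w)) = f (v + w) • g v + f (v + w) • g w := by
      rw [hf, map_add, smul_add]
    rw [smul_add, map_add, hf, hf] at h1
    have h2 : (f v - f (v + w)) • g v = (f (v + w) - f w) • g w := by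
      rw [sub_smul, sub_smul, sub_eq_sub_iff_add_eq_add, h1]; abel
    by_cases h3 : f (v + w) - f w = 0
    · rw [h3, zero_smul, smul_eq_zero] at h2
      rcases h2 with h2 | h2
      · rw [sub_eq_zero.mp h2, ← sub_eq_zero.mp h3]
      · exact absurd (g.map_eq_zero_iff.mp h2) hv
    · exact absurd (Submodule.mem_span_singleton.mpr ⟨_, by
        rw [mul_smul, h2, inv_smul_smul₀ h3]⟩) hw
  have hw00 : w₀ ≠ 0 := fun e => hw₀ (by simp [e])
  refine ⟨f w₀, fun v => ?_⟩
  rcases eq_or_ne v 0 with rfl | hv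
  · simp
  by_cases hd : g w₀ ∈ K ∙ g v
  · obtain ⟨z, hz⟩ := exists_notMem_span h.two_le (g v)
    have hz' : g (g.symm z) ∉ K ∙ g v := by rwa [g.apply_symm_apply]
    have hz0 : g.symm z ≠ 0 := fun e => hz' (by simp [e])
    have hz'' : g (g.symm z) ∉ K ∙ g w₀ := fun hm => by
      obtain ⟨j, hj⟩ := Submodule.mem_span_singleton.mp hm
      exact hz' (hj ▸ (K ∙ g v).smul_mem j hd)
    rw [hf, ← hind v _ hv hz', hind w₀ _ hw00 hz'']
  · rw [hf, hind v w₀ hv hd]

/-- Some member of `G` fixes a vector `u` and maps `c u` to `c u + u`. -/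
lemma exists_step (hns : ∃ g ∈ G, ¬ IsSemi K g) {c : K} (hc : c ∉ Set.range (algebraMap F K)) :
    ∃ u : V, u ≠ 0 ∧ ∃ y ∈ G, y u = u ∧ y (c • u) = c • u + u := by
  obtain ⟨g, hg, u, hu⟩ := h.exists_off hns hc
  obtain ⟨χ, h1, h2⟩ := exists_functional_one hu
  obtain ⟨t, ht, htx⟩ := h.mem_transvection h1
  refine ⟨u, fun e => hu (by simp [e]), g⁻¹ * t * g,
    G.mul_mem (G.mul_mem (G.inv_mem hg) ht) hg, ?_, ?_⟩
  · simp [htx, h1]
  · simp [htx, h2]

end Hyp

/-! ### The root group of a line and its multipliers -/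

variable (G : Subgroup (V ≃ₗ[F] V))

/-- The functionals `δ` vanishing on `K u` with `x ↦ x + δ(x) u` in `G`. -/
def rootSet (u : V) : Set (V →ₗ[F] K) :=
  {δ | (∀ k : K, δ (k • u) = 0) ∧ ∃ g ∈ G, ∀ x, g x = x + δ x • u}

lemma rootSet_zero (u : V) : (0 : V →ₗ[F] K) ∈ rootSet G u :=
  ⟨fun _ => rfl, 1, G.one_mem, fun x => by simp⟩

lemma rootSet_add {u : V} {δ ε : V →ₗ[F] K} (hd : δ ∈ rootSet G u) (he : ε ∈ rootSet G u) :
    δ + ε ∈ rootSet G u := by
  obtain ⟨hd0, g, hg, hgx⟩ := hd
  obtain ⟨he0, t, ht, htx⟩ := he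
  refine ⟨fun k => by simp [hd0, he0], g * t, G.mul_mem hg ht, fun x => ?_⟩
  simp only [LinearEquiv.mul_apply, htx, hgx, map_add, hd0, add_zero, LinearMap.add_apply, add_smul]
  abel

lemma rootSet_neg {u : V} {δ : V →ₗ[F] K} (hd : δ ∈ rootSet G u) : -δ ∈ rootSet G u := by
  obtain ⟨hd0, g, hg, hgx⟩ := hd
  refine ⟨fun k => by simp [hd0], g⁻¹, G.inv_mem hg, fun x => g.injective ?_⟩
  show g (g.symm x) = _
  rw [g.apply_symm_apply, hgx]
  simp [hd0]

/-- The ring of left multipliers of the root set. -/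
def multipliers (u : V) : Subring (Module.End F K) where
  carrier := {X | ∀ δ ∈ rootSet G u, X ∘ₗ δ ∈ rootSet G u}
  zero_mem' δ _ := by simpa using rootSet_zero G u
  one_mem' δ hδ := by simpa [Module.End.one_eq_id] using hδ
  add_mem' {X Y} hX hY δ hδ := by
    rw [LinearMap.add_comp]; exact rootSet_add G (hX δ hδ) (hY δ hδ)
  neg_mem' {X} hX δ hδ := by
    rw [LinearMap.neg_comp]; exact rootSet_neg G (hX δ hδ)
  mul_mem' {X Y} hX hY δ hδ := hX _ (hY δ hδ)

/-- A member of `G` fixing the line acts on the root set. -/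
lemma rootSet_conj {u : V} {g : V ≃ₗ[F] V} (hg : g ∈ G) {a : K →ₗ[F] K}
    (ha : ∀ k : K, g (k • u) = a k • u) (hu : u ≠ 0) {δ : V →ₗ[F] K} (hd : δ ∈ rootSet G u) :
    a ∘ₗ δ ∘ₗ (g⁻¹ : V ≃ₗ[F] V).toLinearMap ∈ rootSet G u := by
  obtain ⟨hd0, t, ht, htx⟩ := hd
  have hsurj : Function.Surjective a := LinearMap.injective_iff_surjective.mp fun x y hxy =>
    smul_left_injective K hu (g.injective (by rw [ha, ha, hxy]))
  refine ⟨fun k => ?_, g * t * g⁻¹, G.mul_mem (G.mul_mem hg ht) (G.inv_mem hg), fun x => ?_⟩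
  · obtain ⟨j, rfl⟩ := hsurj k
    rw [← ha j]
    simp [hd0]
  · simp [htx, ha]

namespace Hyp

variable {G} (h : Hyp G K)
include h

/-- A `K`-functional vanishing at `u` lies in the root set of `u`. -/
lemma rootSet_functional {u : V} {χ : V →ₗ[K] K} (hχ : χ u = 0) :
    χ.restrictScalars F ∈ rootSet G u :=
  ⟨fun k => by simp [hχ], h.mem_transvection hχ⟩

lemma mulLeft_mem_multipliers_of_norm {u : V} (hu : u ≠ 0) {a : K} (ha : Algebra.norm F a = 1) :
    LinearMap.mulLeft F a ∈ multipliers G u := by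
  intro δ hδ
  obtain ⟨ξ, -, hξ⟩ := exists_functional (K := K) (W := ⊥) (x := u) (by simpa using hu)
  set f : V →ₗ[K] V := LinearMap.transvection ((a - 1) • ξ) u with hf
  have hdet : LinearMap.det f = a := by
    rw [hf, LinearMap.transvection.det]; simp [hξ]
  have ha0 : a ≠ 0 := fun e => by simp [e] at ha
  set e : V ≃ₗ[K] V := LinearMap.equivOfDetNeZero f (by rw [hdet]; exact ha0) with he
  have hef : (e : V →ₗ[K] V) = f := rfl
  have heG : e.restrictScalars F ∈ G := h.mem e (by rw [hef, hdet]; exact ha)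
  have hex : ∀ x, e x = x + ((a - 1) * ξ x) • u := fun x => rfl
  have heu : ∀ k : K, (e.restrictScalars F) (k • u) = (LinearMap.mulLeft F a k) • u := fun k => by
    show e (k • u) = _
    rw [hex, map_smul, hξ, ← add_smul, LinearMap.mulLeft_apply]
    congr 1
    simp; ring
  have h1 := rootSet_conj G heG heu hu hδ
  convert h1 using 1
  refine LinearMap.ext fun x => ?_
  obtain ⟨z, rfl⟩ := e.surjective x
  have hz : (e.restrictScalars F)⁻¹ (e z) = z := e.symm_apply_apply z
  simp only [LinearMap.comp_apply, LinearEquiv.coe_coe, hz]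
  rw [hex z, map_add, hδ.1, add_zero]

/-- All multiplications by elements of `K` are multipliers. -/
lemma mulLeft_mem_multipliers {u : V} (hu : u ≠ 0) (a : K) :
    LinearMap.mulLeft F a ∈ multipliers G u := by
  classical
  have : Finite K := Module.finite_of_finite F
  haveI := Fintype.ofFinite K
  let R : Subring K := (multipliers G u).comap (Algebra.lmul F K).toRingHom
  suffices hR : ∀ x : K, x ∈ R by
    have := hR a
    simp only [R, Subring.mem_comap] at this
    exact this
  have hinv : ∀ x ∈ R, x⁻¹ ∈ R := by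
    intro x hx
    rcases eq_or_ne x 0 with rfl | hx0
    · simp
    · have h1 := FiniteField.pow_card_sub_one_eq_one x hx0
      have h2 : 2 ≤ Fintype.card K := Fintype.one_lt_card
      have : x⁻¹ = x ^ (Fintype.card K - 2) := by
        refine inv_eq_of_mul_eq_one_right ?_
        rw [← pow_succ', show Fintype.card K - 2 + 1 = Fintype.card K - 1 by omega, h1]
      exact this ▸ pow_mem hx _
  let E : Subfield K := { R with inv_mem' := hinv }
  have hNE : ∀ x : K, Algebra.norm F x = 1 → x ∈ E := fun x hx => by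
    show x ∈ R
    simp only [R, Subring.mem_comap]
    exact h.mulLeft_mem_multipliers_of_norm hu hx
  let φ : Kˣ →* Fˣ := Units.map (Algebra.norm F)
  have hker : Nat.card φ.ker ≤ Nat.card E := by
    refine Nat.card_le_card_of_injective (fun x : φ.ker => (⟨((x : Kˣ) : K), hNE _ ?_⟩ : E)) ?_
    · have hx := x.2
      rw [MonoidHom.mem_ker] at hx
      exact congrArg Units.val hx
    · intro x y hxy
      exact Subtype.ext (Units.ext (congrArg Subtype.val hxy))
  set q := Nat.card F with hq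
  set r := finrank F K with hr
  have hq2 : 2 ≤ q := by rw [hq, Nat.card_eq_fintype_card]; exact Fintype.one_lt_card
  have hK : Nat.card K = q ^ r := Module.natCard_eq_pow_finrank
  have hidx : (q ^ r - 1) ≤ (q - 1) * Nat.card φ.ker := by
    have h1 := Subgroup.card_mul_index φ.ker
    rw [Subgroup.index_ker, Nat.card_units, hK] at h1
    rw [← h1, mul_comm]
    refine Nat.mul_le_mul_right _ ?_
    rw [hq, ← Nat.card_units]
    exact Subgroup.card_le_card_group _
  have hbig : q ^ (r - 1) < Nat.card E := by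
    have hr2 := h.prime.two_le
    rw [← hr] at hr2
    by_contra hle
    have hle' : Nat.card φ.ker ≤ q ^ (r - 1) := hker.trans (not_lt.mp hle)
    have h2 : q ^ r - 1 ≤ (q - 1) * q ^ (r - 1) :=
      hidx.trans (Nat.mul_le_mul_left _ hle')
    have h3 : q ^ r = q * q ^ (r - 1) := by
      rw [← pow_succ', Nat.sub_add_cancel (by omega)]
    have h4 : 2 ≤ q ^ (r - 1) := le_trans hq2 (Nat.le_self_pow (by omega) q)
    rw [h3, Nat.sub_mul, one_mul] at h2
    have : q ^ (r - 1) ≤ q * q ^ (r - 1) := Nat.le_mul_of_pos_left _ (by omega)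
    omega
  have hd : finrank E K = 1 := by
    have h1 : Nat.card K = Nat.card E ^ finrank E K := Module.natCard_eq_pow_finrank
    have hpos : 0 < finrank E K := Module.finrank_pos
    by_contra hne
    have h2 : Nat.card E ^ 2 ≤ Nat.card E ^ finrank E K :=
      Nat.pow_le_pow_right (Nat.card_pos) (by omega)
    rw [← h1, hK] at h2
    have hr2 := h.prime.two_le
    rw [← hr] at hr2
    have h3 : q ^ r ≤ (q ^ (r - 1)) ^ 2 := by
      rw [← pow_mul]; exact Nat.pow_le_pow_right (by omega) (by omega)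
    have h4 : (q ^ (r - 1)) ^ 2 < Nat.card E ^ 2 := Nat.pow_lt_pow_left hbig two_ne_zero
    omega
  have hcard : Nat.card E = Nat.card K := by
    rw [Module.natCard_eq_pow_finrank (K := E) (V := K), hd, pow_one]
  intro x
  obtain ⟨e, rfl⟩ := (Function.Injective.bijective_of_nat_card_le (f := fun e : E => (e : K))
    Subtype.val_injective hcard.ge).2 x
  exact e.2

/-- Either every endomorphism is a multiplier, or only the multiplications are. -/
lemma multipliers_dichotomy {u : V} (hu : u ≠ 0) :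
    (∀ X : Module.End F K, X ∈ multipliers G u) ∨
      ∀ X ∈ multipliers G u, ∃ k : K, X = LinearMap.mulLeft F k := by
  classical
  by_cases hh : ∀ X ∈ multipliers G u, ∃ k : K, X = LinearMap.mulLeft F k
  · exact Or.inr hh
  refine Or.inl ?_
  have : Finite K := Module.finite_of_finite F
  set M := multipliers (K := K) G u with hM
  simp only [not_forall] at hh
  obtain ⟨X, hX, hXk⟩ := hh
  have hsmul : ∀ (k : K) (Y : Module.End F K), Y ∈ M → k • Y ∈ M := fun k Y hY => by
    have e : k • Y = LinearMap.mulLeft F k * Y := by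
      ext x; simp
    rw [e]; exact M.mul_mem (h.mulLeft_mem_multipliers hu k) hY
  have hcard : Fintype.card (K ≃ₐ[F] K) = finrank K (K →ₗ[F] K) := by
    rw [Module.finrank_linearMap, Module.finrank_self, mul_one, ← Nat.card_eq_fintype_card,
      IsGalois.card_aut_eq_finrank]
  have hli : LinearIndependent K (fun σ : K ≃ₐ[F] K => σ.toLinearMap) :=
    (linearIndependent_toLinearMap F K K).comp (fun σ : K ≃ₐ[F] K => σ.toAlgHom)
      fun σ τ hst => AlgEquiv.ext fun x => DFunLike.congr_fun hst x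
  have hspan := hli.span_eq_top_of_card_eq_finrank hcard
  have hrep : ∀ Y : K →ₗ[F] K, ∃ c : (K ≃ₐ[F] K) → K, ∑ σ, c σ • σ.toLinearMap = Y := fun Y =>
    (Submodule.mem_span_range_iff_exists_fun K).mp (hspan ▸ Submodule.mem_top)
  have isolate : ∀ n (s : Finset (K ≃ₐ[F] K)), s.card ≤ n → ∀ c : (K ≃ₐ[F] K) → K,
      (∑ σ ∈ s, c σ • σ.toLinearMap : Module.End F K) ∈ M →
      ∀ σ₀ ∈ s, c σ₀ ≠ 0 → (σ₀.toLinearMap : Module.End F K) ∈ M := by
    intro n
    induction n with
    | zero =>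
      intro s hs c _ σ₀ hσ₀
      simp [Finset.card_eq_zero.mp (Nat.le_zero.mp hs)] at hσ₀
    | succ n ih =>
      intro s hs c hY σ₀ hσ₀ hc0
      by_cases hτ : ∃ τ ∈ s, τ ≠ σ₀
      · obtain ⟨τ, hτs, hne⟩ := hτ
        obtain ⟨k, hk⟩ : ∃ k, σ₀ k ≠ τ k := by
          by_contra hh
          simp only [not_exists, not_not] at hh
          exact hne (AlgEquiv.ext fun x => (hh x).symm)
        refine ih (s.erase τ) (by rw [Finset.card_erase_of_mem hτs]; omega)
          (fun σ => c σ * (σ k - τ k)) ?_ σ₀ (Finset.mem_erase.mpr ⟨hne.symm, hσ₀⟩)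
          (mul_ne_zero hc0 (sub_ne_zero.mpr hk))
        have hY' := M.sub_mem (M.mul_mem hY (h.mulLeft_mem_multipliers hu k))
          (hsmul (τ k) _ hY)
        convert hY' using 1
        refine LinearMap.ext fun x => ?_
        simp only [LinearMap.sum_apply, LinearMap.smul_apply, AlgEquiv.toLinearMap_apply,
          LinearMap.sub_apply, Module.End.mul_apply, LinearMap.mulLeft_apply, map_mul, smul_eq_mul]
        rw [Finset.mul_sum, ← Finset.sum_sub_distrib]
        rw [Finset.sum_erase _ (by simp)]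
        exact Finset.sum_congr rfl fun σ _ => by ring
      · simp only [not_exists, not_and, not_not] at hτ
        have hs1 : s = {σ₀} := by
          ext τ; simp only [Finset.mem_singleton]
          exact ⟨hτ τ, fun e => e ▸ hσ₀⟩
        rw [hs1, Finset.sum_singleton] at hY
        have := hsmul (c σ₀)⁻¹ _ hY
        rwa [smul_smul, inv_mul_cancel₀ hc0, one_smul] at this
  obtain ⟨c, hc⟩ := hrep X
  obtain ⟨σ₀, hσ₀, hσ1⟩ : ∃ σ₀, c σ₀ ≠ 0 ∧ σ₀ ≠ 1 := by
    by_contra hh
    simp only [not_exists, not_and, not_not] at hh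
    refine hXk ⟨c 1, ?_⟩
    rw [← hc, Finset.sum_eq_single 1 (fun σ _ hσ => by
      rw [show c σ = 0 by by_contra h0; exact hσ (hh σ h0), zero_smul]) (by simp)]
    ext x; simp
  have hσM := isolate _ Finset.univ le_rfl c (by rw [hc]; exact hX) σ₀ (Finset.mem_univ _) hσ₀
  have hall : ∀ σ : K ≃ₐ[F] K, (σ.toLinearMap : Module.End F K) ∈ M := by
    intro σ
    have : Fact (finrank F K).Prime := ⟨h.prime⟩
    have hgen : σ ∈ Subgroup.zpowers σ₀ :=
      mem_zpowers_of_prime_card (p := finrank F K)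
        (IsGalois.card_aut_eq_finrank F K) hσ1
    obtain ⟨n, rfl⟩ := mem_powers_iff_mem_zpowers.mpr hgen
    induction n with
    | zero =>
      convert M.one_mem using 1
      ext x; simp
    | succ n ih =>
      convert M.mul_mem (ih (Subgroup.npow_mem_zpowers _ _)) hσM using 1
      ext x; simp [pow_succ]
  intro Y
  obtain ⟨d, rfl⟩ := hrep Y
  exact M.sum_mem fun σ _ => hsmul _ _ (hall σ)

lemma hasTv_smul_functional {u : V} (hall : ∀ X : Module.End F K, X ∈ multipliers G u)
    {Φ : V →ₗ[K] K} (hΦ : Φ u = 0) (ψ : K →ₗ[F] F) :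
    HasTv G u (ψ ∘ₗ Φ.restrictScalars F) := by
  obtain ⟨-, g, hg, hgx⟩ := hall ((Algebra.linearMap F K) ∘ₗ ψ) _ (h.rootSet_functional hΦ)
  refine ⟨g, hg, fun x => ?_⟩
  rw [hgx]
  simp

/-- From one line whose multipliers are everything, all transvections. -/
theorem hasTv_of_multipliers {u : V} (hu : u ≠ 0)
    (hall : ∀ X : Module.End F K, X ∈ multipliers G u) :
    ∀ (a : V) (θ : V →ₗ[F] F), θ a = 0 → HasTv G a θ := by
  have hA : ∀ a : V, a ≠ 0 → ∀ Φ : V →ₗ[K] K, Φ a = 0 → ∀ ψ : K →ₗ[F] F,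
      HasTv G a (ψ ∘ₗ Φ.restrictScalars F) := by
    intro a ha Φ hΦ ψ
    obtain ⟨e, he, hea, hlin⟩ := h.exists_map hu ha
    let Φ' : V →ₗ[K] K := { toFun := fun x => Φ (e x), map_add' := by simp, map_smul' := by simp [hlin] }
    obtain ⟨g, hg, hgx⟩ := h.hasTv_smul_functional hall (Φ := Φ') (by simp [Φ', hea, hΦ]) ψ
    refine ⟨e * g * e⁻¹, G.mul_mem (G.mul_mem he hg) (G.inv_mem he), fun x => ?_⟩
    simp [hgx, Φ', hea]
  have hadd : ∀ (a : V) (θ θ' : V →ₗ[F] F), θ a = 0 → θ' a = 0 → HasTv G a θ → HasTv G a θ' →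
      HasTv G a (θ + θ') := by
    rintro a θ θ' h1 h2 ⟨g, hg, hgx⟩ ⟨t, ht, htx⟩
    refine ⟨g * t, G.mul_mem hg ht, fun x => ?_⟩
    simp [hgx, htx, h1, add_smul]
    abel
  have hline : ∀ (a : V) (θ : V →ₗ[F] F), a ≠ 0 → (∀ k : K, θ (k • a) = 0) → HasTv G a θ := by
    intro a θ ha hθ
    classical
    have hli : LinearIndepOn K id ({a} : Set V) := (linearIndepOn_singleton_iff (R := K) (v := id)).mpr ha
    let b := Basis.extend hli
    haveI := Fintype.ofFinite (hli.extend (Set.subset_univ _))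
    let ψ := fun i => θ ∘ₗ ((LinearMap.toSpanSingleton K V (b i)).restrictScalars F)
    let term := fun i => (ψ i) ∘ₗ (b.coord i).restrictScalars F
    have hθ' : θ = ∑ i, term i := by
      refine LinearMap.ext fun x => ?_
      conv_lhs => rw [← b.sum_repr x, map_sum]
      simp [term, ψ]
    let i₀ : hli.extend (Set.subset_univ _) := ⟨a, Basis.subset_extend hli (Set.mem_singleton a)⟩
    have hbi : b i₀ = a := by simp [b, i₀]
    have hterm0 : ∀ i, term i a = 0 := fun i => by
      by_cases hi : i = i₀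
      · subst hi
        simp [term, ψ, hbi, hθ]
      · have : b.coord i a = 0 :=
          (congrArg (b.coord i) hbi).symm.trans (by simp [Ne.symm hi])
        simp [term, ψ, this]
    rw [hθ']
    suffices hs : ∀ s : Finset _, HasTv G a (∑ i ∈ s, term i) from hs Finset.univ
    intro s
    induction s using Finset.induction_on with
    | empty => exact ⟨1, G.one_mem, fun x => by simp⟩
    | insert i s his ih =>
      rw [Finset.sum_insert his]
      refine hadd a _ _ (hterm0 i) (by simp [hterm0]) ?_ ih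
      by_cases hi : i = i₀
      · refine ⟨1, G.one_mem, fun x => ?_⟩
        subst hi
        simp [term, ψ, hbi, hθ]
      · exact hA a ha (b.coord i)
          ((congrArg (b.coord i) hbi).symm.trans (by simp [Ne.symm hi])) _
  intro a θ hθa
  rcases eq_or_ne a 0 with rfl | ha
  · exact ⟨1, G.one_mem, fun x => by simp⟩
  obtain ⟨u', hu'0, hu'⟩ : ∃ u' : V, u' ≠ 0 ∧ ∀ k : K, θ (k • u') = 0 := by
    let L : V →ₗ[F] (K →ₗ[F] F) :=
      { toFun := fun x => θ ∘ₗ (LinearMap.toSpanSingleton K V x).restrictScalars F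
        map_add' := fun x y => by ext k; simp
        map_smul' := fun c x => by ext k; simp [smul_comm k c x] }
    have hlt : finrank F (K →ₗ[F] F) < finrank F V := by
      rw [Module.finrank_linearMap, Module.finrank_self, mul_one, ← Module.finrank_mul_finrank F K V]
      exact lt_of_lt_of_le (by have := h.prime.pos; omega : finrank F K < finrank F K * 2)
        (Nat.mul_le_mul_left _ h.two_le)
    obtain ⟨x, hx, hx0⟩ := Submodule.exists_mem_ne_zero_of_ne_bot
      (LinearMap.ker_ne_bot_of_finrank_lt (f := L) hlt)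
    exact ⟨x, hx0, fun k => LinearMap.congr_fun (LinearMap.mem_ker.mp hx) k⟩
  by_cases hd : u' ∈ K ∙ a
  · obtain ⟨j, rfl⟩ := Submodule.mem_span_singleton.mp hd
    have hj : j ≠ 0 := fun e => hu'0 (by simp [e])
    refine hline a θ ha fun k => ?_
    have := hu' (k * j⁻¹)
    rwa [smul_smul, inv_mul_cancel_right₀ hj] at this
  obtain ⟨Φ, hΦa, hΦu⟩ := exists_functional_one hd
  obtain ⟨ψ, hψ⟩ : ∃ ψ : K →ₗ[F] F, ψ 1 = 1 := by
    obtain ⟨ψ, h1, -⟩ := Submodule.exists_dual_map_eq_bot_of_notMem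
      (p := (⊥ : Submodule F K)) (x := (1 : K)) (by simp) inferInstance
    exact ⟨(ψ 1)⁻¹ • ψ, by simp [h1]⟩
  obtain ⟨t₁, ht₁, ht₁x⟩ := hA a ha Φ hΦa ψ
  obtain ⟨t₂, ht₂, ht₂x⟩ := hline u' θ hu'0 hu'
  have hθu : θ u' = 0 := by simpa using hu' 1
  refine ⟨t₁ * t₂ * t₁⁻¹ * t₂⁻¹,
    G.mul_mem (G.mul_mem (G.mul_mem ht₁ ht₂) (G.inv_mem ht₁)) (G.inv_mem ht₂), fun x => ?_⟩
  obtain ⟨y, rfl⟩ := t₂.surjective x
  obtain ⟨z, rfl⟩ := t₁.surjective y
  show t₁ (t₂ (t₁.symm (t₂.symm (t₂ (t₁ z))))) = _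
  rw [t₂.symm_apply_apply, t₁.symm_apply_apply]
  simp [ht₁x, ht₂x, hΦu, hψ, hθa, hθu, add_smul]
  abel

end Hyp

end CfsgLib.ExtFieldMax
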