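import Mathlib
import Cfsg.Agent.Lib.ExtFieldMax.Basic

/-!
A group containing the determinant-one `K`-linear maps and a map which is not semilinear contains
every transvection, when some element of `K` outside `F` has no field conjugate `c + 1`
(Frattini argument on the fixer of an `F`-plane inside a `K`-line).
-/

set_option autoImplicit false
set_option linter.unusedSectionVars false
set_option linter.style.haveILetI false

namespace CfsgLib.ExtFieldMax

open Module

variable {F K V : Type*} [Field F] [Fintype F] [Field K] [Algebra F K] [AddCommGroup V]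
  [Module F V] [Module K V] [IsScalarTower F K V] [FiniteDimensional F V]
  [FiniteDimensional F K] [FiniteDimensional K V]

variable {G : Subgroup (V ≃ₗ[F] V)}

namespace Hyp

variable (h : Hyp G K)
include h

/-- A vector fixed by all root elements of the line `K u` lies on it. -/
lemma mem_line_of_fixed {u x : V} (hu : u ≠ 0)
    (hx : ∀ χ : V →ₗ[K] K, χ u = 0 → χ x • u = 0) : x ∈ K ∙ u := by
  by_contra hh
  obtain ⟨χ, h1, h2⟩ := exists_functional_one hh
  have := hx χ h1
  rw [h2, one_smul] at this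
  exact hu this

/-- With only the multiplications as multipliers, the stabiliser of the line acts semilinearly. -/
lemma induced {u : V} (hu : u ≠ 0)
    (hM : ∀ X ∈ multipliers G u, ∃ k : K, X = LinearMap.mulLeft F k)
    {g : V ≃ₗ[F] V} (hg : g ∈ G) (hL : ∀ x ∈ K ∙ u, g x ∈ K ∙ u) :
    ∃ a : K →ₗ[F] K, (∀ k, g (k • u) = a k • u) ∧ Function.Bijective a ∧
      ∀ k z, a (k * z) * a 1 = a k * a z := by
  have hex : ∀ k : K, ∃ j : K, g (k • u) = j • u := fun k => by
    obtain ⟨j, hj⟩ := Submodule.mem_span_singleton.mp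
      (hL _ (Submodule.smul_mem _ k (Submodule.mem_span_singleton_self u)))
    exact ⟨j, hj.symm⟩
  choose f hf using hex
  let a : K →ₗ[F] K :=
    { toFun := f
      map_add' := fun x y => smul_left_injective K hu (by
        show f (x + y) • u = (f x + f y) • u
        rw [add_smul, ← hf, ← hf, ← hf, add_smul, map_add])
      map_smul' := fun r x => smul_left_injective K hu (by
        show f (r • x) • u = (r • f x) • u
        rw [smul_assoc, ← hf, ← hf, smul_assoc, map_smul]) }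
  have ha : ∀ k, g (k • u) = a k • u := hf
  have hinj : Function.Injective a := fun x y hxy =>
    smul_left_injective K hu (g.injective (by rw [ha, ha, hxy]))
  have hbij : Function.Bijective a := ⟨hinj, LinearMap.injective_iff_surjective.mp hinj⟩
  set A : K ≃ₗ[F] K := LinearEquiv.ofBijective a hbij with hA
  have hAa : ∀ k, A k = a k := fun k => rfl
  have hginv : ∀ k : K, (g⁻¹ : V ≃ₗ[F] V) (k • u) = A.symm.toLinearMap k • u := fun k => by
    refine g.injective ?_
    show g (g.symm (k • u)) = _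
    rw [g.apply_symm_apply, ha, LinearEquiv.coe_coe, ← hAa, A.apply_symm_apply]
  refine ⟨a, ha, hbij, fun k z => ?_⟩
  have hmem : A.toLinearMap ∘ₗ LinearMap.mulLeft F k ∘ₗ A.symm.toLinearMap ∈ multipliers G u := by
    intro δ hδ
    have h0 := rootSet_conj G (G.inv_mem hg) hginv hu hδ
    have h1 := h.mulLeft_mem_multipliers hu k _ h0
    convert rootSet_conj G hg ha hu h1 using 1
    refine LinearMap.ext fun x => ?_
    simp only [LinearMap.comp_apply, LinearEquiv.coe_coe, inv_inv]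
    show A (k * A.symm (δ x)) = a (k * A.symm (δ (g (g.symm x))))
    rw [g.apply_symm_apply, hAa]
  obtain ⟨k', hk'⟩ := hM _ hmem
  have hz : ∀ z, a (k * z) = k' * a z := fun z => by
    have := LinearMap.congr_fun hk' (a z)
    simp only [LinearMap.comp_apply, LinearEquiv.coe_coe, LinearMap.mulLeft_apply] at this
    rwa [show A.symm (a z) = z from A.symm_apply_apply z, hAa] at this
  have h1 := hz 1
  rw [mul_one] at h1
  rw [hz z, h1]; ring

/-- On the line, an element fixing `u` induces a field automorphism. -/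
lemma induced_algHom {u : V} (hu : u ≠ 0)
    (hM : ∀ X ∈ multipliers G u, ∃ k : K, X = LinearMap.mulLeft F k)
    {g : V ≃ₗ[F] V} (hg : g ∈ G) (hL : ∀ x ∈ K ∙ u, g x ∈ K ∙ u) (hgu : g u = u) :
    ∃ τ : K →ₐ[F] K, ∀ k, g (k • u) = τ k • u := by
  obtain ⟨a, ha, -, hmul⟩ := h.induced hu hM hg hL
  have h1 : a 1 = 1 := smul_left_injective K hu (by
    show a 1 • u = (1 : K) • u
    rw [← ha, one_smul, hgu])
  exact ⟨AlgHom.ofLinearMap a h1 fun k z => by have := hmul k z; rwa [h1, mul_one] at this, ha⟩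

/-- In `G`, an element fixing `u` and `c u` and preserving the line fixes it pointwise. -/
lemma fix_line {u : V} (hu : u ≠ 0)
    (hM : ∀ X ∈ multipliers G u, ∃ k : K, X = LinearMap.mulLeft F k)
    {c : K} (hc : c ∉ Set.range (algebraMap F K))
    {g : V ≃ₗ[F] V} (hg : g ∈ G) (hL : ∀ x ∈ K ∙ u, g x ∈ K ∙ u) (hgu : g u = u)
    (hgc : g (c • u) = c • u) : ∀ k : K, g (k • u) = k • u := by
  obtain ⟨τ, hτ⟩ := h.induced_algHom hu hM hg hL hgu
  have hcE : c ∈ AlgHom.equalizer τ (AlgHom.id F K) :=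
    smul_left_injective K hu (by show τ c • u = c • u; rw [← hτ, hgc])
  rcases (Subalgebra.isSimpleOrder_of_finrank_prime F K h.prime).eq_bot_or_eq_top
      (AlgHom.equalizer τ (AlgHom.id F K)) with hE | hE
  · rw [hE] at hcE
    exact absurd (Algebra.mem_bot.mp hcE) hc
  · intro k
    have hk : k ∈ AlgHom.equalizer τ (AlgHom.id F K) := by rw [hE]; exact Algebra.mem_top
    rw [hτ, show τ k = k from hk]

/-- The multipliers of a line carrying a `c ↦ c + 1` step are not only the multiplications. -/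
lemma not_only_mulLeft {c : K} (hc : c ∉ Set.range (algebraMap F K))
    (hgood : ∀ τ : K →ₐ[F] K, τ c ≠ c + 1) {u : V} (hu : u ≠ 0) {y : V ≃ₗ[F] V} (hy : y ∈ G)
    (hyu : y u = u) (hyc : y (c • u) = c • u + u) :
    ¬ ∀ X ∈ multipliers G u, ∃ k : K, X = LinearMap.mulLeft F k := by
  intro hM
  classical
  have hVfin : Finite V := Module.finite_of_finite F
  have hAfin : Finite (V ≃ₗ[F] V) :=
    Finite.of_injective (fun e : V ≃ₗ[F] V => (e : V → V)) DFunLike.coe_injective
  obtain ⟨p, hp⟩ := CharP.exists F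
  have hpp : p.Prime := CharP.char_is_prime F p
  have : Fact p.Prime := ⟨hpp⟩
  have hKp : CharP K p := charP_of_injective_algebraMap (algebraMap F K).injective p
  let R : Subgroup (V ≃ₗ[F] V) :=
    { carrier := {g | g ∈ G ∧ g u = u ∧ g (c • u) = c • u}
      one_mem' := ⟨G.one_mem, rfl, rfl⟩
      mul_mem' := fun {a b} ha hb => ⟨G.mul_mem ha.1 hb.1,
        by rw [LinearEquiv.mul_apply, hb.2.1, ha.2.1], by rw [LinearEquiv.mul_apply, hb.2.2, ha.2.2]⟩
      inv_mem' := fun {a} ha => ⟨G.inv_mem ha.1, a.symm_apply_eq.mpr ha.2.1.symm,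
        a.symm_apply_eq.mpr ha.2.2.symm⟩ }
  let Q₀ : Subgroup (V ≃ₗ[F] V) :=
    { carrier := {g | ∃ χ : V →ₗ[K] K, χ u = 0 ∧ ∀ x, g x = x + χ x • u}
      one_mem' := ⟨0, rfl, fun x => by simp⟩
      mul_mem' := by
        rintro a b ⟨χ, h1, h2⟩ ⟨ψ, h3, h4⟩
        refine ⟨χ + ψ, by simp [h1, h3], fun x => ?_⟩
        simp [h2, h4, h1, add_smul]
        abel
      inv_mem' := by
        rintro a ⟨χ, h1, h2⟩
        refine ⟨-χ, by simp [h1], fun x => a.injective ?_⟩
        show a (a.symm x) = _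
        rw [a.apply_symm_apply, h2]
        simp [h1] }
  have hQR : Q₀ ≤ R := by
    rintro g ⟨χ, h1, h2⟩
    obtain ⟨t, ht, htx⟩ := h.mem_transvection h1
    obtain rfl : g = t := LinearEquiv.ext fun x => by rw [h2, htx]
    exact ⟨ht, by simp [h2, h1], by simp [h2, h1]⟩
  have hQp : IsPGroup p Q₀ := by
    rintro ⟨g, χ, h1, h2⟩
    refine ⟨1, Subtype.ext (LinearEquiv.ext fun x => ?_)⟩
    have hpow : ∀ n : ℕ, (g ^ n) x = x + ((n : K) * χ x) • u := by
      intro n
      induction n with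
      | zero => simp
      | succ n ih =>
        rw [pow_succ', LinearEquiv.mul_apply, ih, h2]
        simp [h1, add_smul, add_mul]
        abel
    simp [hpow]
  obtain ⟨P, hP⟩ := IsPGroup.exists_le_sylow (hQp.comap_subtype (K := R))
  let LS : Subgroup (V ≃ₗ[F] V) :=
    { carrier := {g | ∀ x, g x ∈ K ∙ u ↔ x ∈ K ∙ u}
      one_mem' := fun x => Iff.rfl
      mul_mem' := fun {a b} ha hb x => (ha (b x)).trans (hb x)
      inv_mem' := fun {a} ha x => by
        have := ha (a.symm x)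
        rw [a.apply_symm_apply] at this
        exact this.symm }
  have hfix : ∀ g : ↥R, (g : V ≃ₗ[F] V) ∈ LS → ∀ x ∈ K ∙ u, (g : V ≃ₗ[F] V) x = x := by
    intro g hg x hx
    obtain ⟨k, rfl⟩ := Submodule.mem_span_singleton.mp hx
    exact h.fix_line hu hM hc g.2.1 (fun x hx => (hg x).mpr hx) g.2.2.1 g.2.2.2 k
  have hQfix : ∀ x, (∀ q : ↥R, q ∈ (P : Subgroup ↥R) → (q : V ≃ₗ[F] V) ∈ LS →
      (q : V ≃ₗ[F] V) x = x) → x ∈ K ∙ u := by
    intro x hx
    refine h.mem_line_of_fixed hu fun χ hχ => ?_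
    obtain ⟨t, ht, htx⟩ := h.mem_transvection hχ
    have hq : t ∈ Q₀ := ⟨χ, hχ, htx⟩
    have := hx ⟨t, hQR hq⟩ (hP hq) (fun z => by
      rw [show ((⟨t, hQR hq⟩ : ↥R) : V ≃ₗ[F] V) z = z + χ z • u from htx z]
      exact Submodule.add_mem_iff_left _
        (Submodule.smul_mem _ _ (Submodule.mem_span_singleton_self u)))
    simpa [htx] using this
  let P₁ : Subgroup ↥(P : Subgroup ↥R) := LS.comap (R.subtype.comp (P : Subgroup ↥R).subtype)
  have hPLS : ∀ q : ↥R, q ∈ (P : Subgroup ↥R) → (q : V ≃ₗ[F] V) ∈ LS := by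
    suffices hP₁ : P₁ = ⊤ by
      intro q hq
      have : (⟨q, hq⟩ : ↥(P : Subgroup ↥R)) ∈ P₁ := hP₁ ▸ Subgroup.mem_top _
      exact this
    by_contra hne
    haveI : Group.IsNilpotent ↥(P : Subgroup ↥R) := P.isPGroup'.isNilpotent
    have hlt := Group.normalizerCondition_of_isNilpotent P₁ (lt_top_iff_ne_top.mpr hne)
    obtain ⟨z, hz, hz1⟩ := SetLike.exists_of_lt hlt
    have hmap : ∀ w : ↥(P : Subgroup ↥R), w ∈ Subgroup.normalizer (P₁ : Set ↥(P : Subgroup ↥R)) →
        ∀ x ∈ K ∙ u, ((w : ↥R) : V ≃ₗ[F] V) x ∈ K ∙ u := by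
      intro w hw x hx
      refine hQfix _ fun q hqP hqLS => ?_
      have hq1 : (⟨q, hqP⟩ : ↥(P : Subgroup ↥R)) ∈ P₁ := hqLS
      have hc1 : w⁻¹ * ⟨q, hqP⟩ * w ∈ P₁ :=
        (Subgroup.mem_normalizer_iff''.mp hw _).mp hq1
      have h3 := hfix _ (show ((((w⁻¹ * ⟨q, hqP⟩ * w : ↥(P : Subgroup ↥R)) : ↥R) :
        V ≃ₗ[F] V)) ∈ LS from hc1) x hx
      have h4 := congrArg ((w : ↥R) : V ≃ₗ[F] V) h3
      simpa using h4
    refine hz1 fun x => ⟨fun hx => ?_, hmap z hz x⟩
    have := hmap z⁻¹ (Subgroup.inv_mem _ hz) _ hx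
    simpa using this
  have hyR : ∀ g ∈ R, y * g * y⁻¹ ∈ R := by
    rintro g ⟨h1, h2, h3⟩
    have hy1 : y.symm u = u := y.symm_apply_eq.mpr hyu.symm
    have hy2 : y.symm (c • u) = c • u - u := y.symm_apply_eq.mpr (by
      rw [map_sub, hyc, hyu, add_sub_cancel_right])
    refine ⟨G.mul_mem (G.mul_mem hy h1) (G.inv_mem hy), ?_, ?_⟩
    · show y (g (y.symm u)) = u
      rw [hy1, h2, hyu]
    · show y (g (y.symm (c • u))) = c • u
      rw [hy2, map_sub, h3, h2, map_sub, hyc, hyu, add_sub_cancel_right]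
  let φ : ↥R →* ↥R :=
    { toFun := fun g => ⟨y * g * y⁻¹, hyR g g.2⟩
      map_one' := Subtype.ext (by simp)
      map_mul' := fun a b => Subtype.ext (by simp [mul_assoc]) }
  have hφ : Function.Surjective φ :=
    Finite.injective_iff_surjective.mp fun a b hab => Subtype.ext (by
      simpa [φ] using congrArg Subtype.val hab)
  obtain ⟨ρ, hρ⟩ := MulAction.exists_smul_eq ↥R (P.mapSurjective hφ) P
  have hy' : ((ρ : V ≃ₗ[F] V) * y) ∈ G := G.mul_mem ρ.2.1 hy
  have hL : ∀ x ∈ K ∙ u, ((ρ : V ≃ₗ[F] V) * y) x ∈ K ∙ u := by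
    intro x hx
    refine hQfix _ fun q hqP _ => ?_
    have hq : q ∈ ((ρ • P.mapSurjective hφ : Sylow p ↥R) : Subgroup ↥R) := by rw [hρ]; exact hqP
    rw [Sylow.coe_subgroup_smul, Sylow.coe_mapSurjective, Subgroup.mem_pointwise_smul_iff_inv_smul_mem,
      Subgroup.mem_map] at hq
    obtain ⟨s, hs, hse⟩ := hq
    have hq' : q = ρ * φ s * ρ⁻¹ := by
      rw [hse]
      simp [MulAut.smul_def, mul_assoc]
    have h3 := hfix s (hPLS s hs) x hx
    rw [hq']
    simp [φ, h3]
  obtain ⟨τ, hτ⟩ := h.induced_algHom hu hM hy' hL (by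
    rw [LinearEquiv.mul_apply, hyu]; exact ρ.2.2.1)
  refine hgood τ (smul_left_injective K hu ?_)
  show τ c • u = (c + 1) • u
  rw [← hτ, LinearEquiv.mul_apply, hyc, map_add, ρ.2.2.2, ρ.2.2.1, add_smul, one_smul]

/-- The main theorem away from `|F| = |K : F| = 2`. -/
theorem hasTv_generic (hns : ∃ g ∈ G, ¬ IsSemi K g) {c : K}
    (hc : c ∉ Set.range (algebraMap F K)) (hgood : ∀ τ : K →ₐ[F] K, τ c ≠ c + 1) :
    ∀ (a : V) (θ : V →ₗ[F] F), θ a = 0 → HasTv G a θ := by
  obtain ⟨u, hu, y, hy, hyu, hyc⟩ := h.exists_step hns hc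
  rcases h.multipliers_dichotomy hu with hall | hM
  · exact h.hasTv_of_multipliers hu hall
  · exact absurd hM (h.not_only_mulLeft hc hgood hu hy hyu hyc)

end Hyp

end CfsgLib.ExtFieldMax
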