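import Mathlib
import Cfsg.Agent.Lib.ExtFieldMax.Generic

/-!
The extension of degree two over the field of two elements: the remaining case of the maximality
of extension-field normalisers (triples of vectors for dimension at least three, a Sylow 5-count
in dimension two).
-/

set_option autoImplicit false
set_option linter.unusedSectionVars false
set_option linter.style.haveILetI false

namespace CfsgLib.ExtFieldMax

open Module

variable {F K V : Type*} [Field F] [Fintype F] [Field K] [Algebra F K] [AddCommGroup V]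
  [Module F V] [Module K V] [IsScalarTower F K V] [FiniteDimensional F V]
  [FiniteDimensional F K] [FiniteDimensional K V]

variable {G : Subgroup (V ≃ₗ[F] V)}

/-- Independent families of one length are related by a linear automorphism. -/
lemma exists_equiv_of_indep {n : ℕ} {a b : Fin n → V} (ha : LinearIndependent K a)
    (hb : LinearIndependent K b) : ∃ e : V ≃ₗ[K] V, ∀ i, e (a i) = b i := by
  obtain ⟨e, he⟩ : ∃ e : V ≃ₗ[K] V, ∀ x : Submodule.span K (Set.range a),
      e x = ((Basis.span ha).equiv (Basis.span hb) (Equiv.refl _) x : V) := by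
    set A := Submodule.span K (Set.range a)
    set B := Submodule.span K (Set.range b)
    obtain ⟨A', hA⟩ := A.exists_isCompl
    obtain ⟨B', hB⟩ := B.exists_isCompl
    have hdim : finrank K A' = finrank K B' := by
      have h1 := Submodule.finrank_add_eq_of_isCompl hA
      have h2 := Submodule.finrank_add_eq_of_isCompl hB
      rw [finrank_span_eq_card ha] at h1
      rw [finrank_span_eq_card hb] at h2
      omega
    refine ⟨(Submodule.prodEquivOfIsCompl A A' hA).symm ≪≫ₗ
      (((Basis.span ha).equiv (Basis.span hb) (Equiv.refl _)).prodCongr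
        (LinearEquiv.ofFinrankEq _ _ hdim)) ≪≫ₗ Submodule.prodEquivOfIsCompl B B' hB, fun x => ?_⟩
    simp
  refine ⟨e, fun i => ?_⟩
  have := he (Basis.span ha i)
  rw [Basis.equiv_apply, Equiv.refl_apply] at this
  simpa [Basis.span_apply] using this

lemma indep_pair {a w : V} (ha : a ≠ 0) (hw : w ∉ K ∙ a) : LinearIndependent K ![a, w] :=
  (LinearIndependent.pair_iff' ha).2 fun c hc => hw (Submodule.mem_span_singleton.2 ⟨c, hc⟩)

namespace Hyp

variable (h : Hyp G K) (hF : Fintype.card F = 2)
include h hF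

lemma eq_one_of_ne_zero {x : F} (hx : x ≠ 0) : x = 1 := by
  have := FiniteField.pow_card_sub_one_eq_one x hx
  simpa [hF] using this

lemma mem_all (e : V ≃ₗ[K] V) : e.restrictScalars F ∈ G :=
  h.mem e (h.eq_one_of_ne_zero hF (Algebra.norm_ne_zero_iff.mpr (LinearEquiv.isUnit_det' e).ne_zero))

variable (hr : finrank F K = 2)
include hr

lemma two_eq_zero : (2 : K) = 0 := by
  have h2 : ((Fintype.card F : ℕ) : F) = 0 := Nat.cast_card_eq_zero F
  rw [hF] at h2
  have := congrArg (algebraMap F K) h2
  simpa [map_ofNat] using this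

lemma add_self (x : K) : x + x = 0 := by
  rw [← two_mul, h.two_eq_zero hF hr, zero_mul]

lemma add_self' (x : V) : x + x = 0 := by
  rw [← one_smul K x, ← add_smul, h.add_self hF hr, zero_smul]

lemma cases_four {c : K} (hc : c ∉ Set.range (algebraMap F K)) :
    c * c = c + 1 ∧ ∀ k : K, k = 0 ∨ k = 1 ∨ k = c ∨ k = c + 1 := by
  classical
  haveI : Finite K := Module.finite_of_finite F
  haveI := Fintype.ofFinite K
  have hc0 : c ≠ 0 := fun e => hc ⟨0, by rw [e, map_zero]⟩
  have hc1 : c ≠ 1 := fun e => hc ⟨1, by rw [e, map_one]⟩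
  have hc11 : c + 1 ≠ 0 := fun e => hc1 (by linear_combination e - h.add_self hF hr 1)
  have hcard : Fintype.card K = 4 := by
    rw [Module.card_eq_pow_finrank (K := F), hF, hr]; rfl
  have huniv : ({0, 1, c, c + 1} : Finset K) = Finset.univ := by
    refine Finset.eq_univ_of_card _ ?_
    rw [hcard]
    simp [Ne.symm hc0, Ne.symm hc1, Ne.symm hc11, hc0]
  have hall : ∀ k : K, k = 0 ∨ k = 1 ∨ k = c ∨ k = c + 1 := fun k => by
    have hk : k ∈ ({0, 1, c, c + 1} : Finset K) := by rw [huniv]; exact Finset.mem_univ _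
    simpa using hk
  refine ⟨?_, hall⟩
  rcases hall (c * c) with e | e | e | e
  · exact absurd (mul_self_eq_zero.mp e) hc0
  · have : (c + 1) * (c + 1) = 0 := by
      linear_combination e + h.add_self hF hr (c + 1)
    exact absurd (mul_self_eq_zero.mp this) hc11
  · exact absurd (mul_right_cancel₀ hc0 (by rw [e, one_mul])) hc1
  · exact e

lemma exists_pair (hns : ∃ g ∈ G, ¬ IsSemi K g) {c : K} (hc : c ∉ Set.range (algebraMap F K))
    {a w : V} (ha : a ≠ 0) (hw : w ∉ K ∙ a) : ∃ g ∈ G, g a = a ∧ g (c • a) = w := by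
  obtain ⟨g₀, hg₀, u₀, hu₀⟩ := h.exists_off hns hc
  have hu0 : u₀ ≠ 0 := fun e => hu₀ (by simp [e])
  have hgu0 : g₀ u₀ ≠ 0 := fun e => hu0 (g₀.map_eq_zero_iff.mp e)
  obtain ⟨e₁, he₁, e₁a, l₁⟩ := h.exists_map ha hu0
  obtain ⟨e₂, he₂⟩ := exists_equiv_of_indep (indep_pair hgu0 hu₀) (indep_pair ha hw)
  have h0 : e₂ (g₀ u₀) = a := by simpa using he₂ 0
  have h1 : e₂ (g₀ (c • u₀)) = w := by simpa using he₂ 1
  exact ⟨e₂.restrictScalars F * g₀ * e₁,
    G.mul_mem (G.mul_mem (h.mem_all hF e₂) hg₀) he₁, by simp [e₁a, h0], by simp [l₁, e₁a, h1]⟩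

/-- With only the multiplications as multipliers, the root elements of a line are `K`-linear. -/
lemma rootSet_linear {c : K} (hc : c ∉ Set.range (algebraMap F K)) {u : V} (hu : u ≠ 0)
    (hM : ∀ X ∈ multipliers G u, ∃ k : K, X = LinearMap.mulLeft F k)
    {δ : V →ₗ[F] K} (hδ : δ ∈ rootSet G u) (k : K) (x : V) : δ (k • x) = k * δ x := by
  classical
  obtain ⟨hcc, hall⟩ := h.cases_four hF hr hc
  have two := h.two_eq_zero hF hr
  have hc0 : c ≠ 0 := fun e => hc ⟨0, by rw [e, map_zero]⟩
  have hdec : ∀ δ ∈ rootSet G u, ∃ D ∈ rootSet G u, ∀ x : V,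
      D x = δ (c • x) - c * δ x ∧ D (c • x) = (c + 1) * D x ∧
        (δ - D) (c • x) = c * (δ - D) x := by
    intro δ hδ
    set e : V ≃ₗ[K] V := LinearEquiv.smulOfUnit (Units.mk0 c hc0)⁻¹ with he
    have hex : ∀ x, e x = c⁻¹ • x := fun x => rfl
    have heu : ∀ k : K, (e.restrictScalars F) (k • u) = LinearMap.mulLeft F c⁻¹ k • u := fun k => by
      show e (k • u) = _
      rw [hex, smul_smul, LinearMap.mulLeft_apply]
    have h1 := h.mulLeft_mem_multipliers hu c _
      (rootSet_conj G (h.mem_all hF e) heu hu hδ)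
    have h2 := rootSet_add G h1 (rootSet_neg G (h.mulLeft_mem_multipliers hu c _ hδ))
    refine ⟨_, h2, fun x => ?_⟩
    have hsym : ((e.restrictScalars F)⁻¹ : V ≃ₗ[F] V) x = c • x := by
      show e.symm x = c • x
      exact e.symm_apply_eq.mpr (by rw [hex, smul_smul, inv_mul_cancel₀ hc0, one_smul])
    have hsym' : ((e.restrictScalars F)⁻¹ : V ≃ₗ[F] V) (c • x) = c • c • x := by
      show e.symm (c • x) = _
      exact e.symm_apply_eq.mpr (by rw [hex, smul_smul, inv_mul_cancel₀ hc0, one_smul])
    have hcx : δ (c • c • x) = δ (c • x) + δ x := by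
      rw [smul_smul, hcc, add_smul, one_smul, map_add]
    simp only [LinearMap.add_apply, LinearMap.neg_apply, LinearMap.sub_apply, LinearMap.comp_apply,
      LinearMap.mulLeft_apply, LinearEquiv.coe_coe, hsym, hsym', hcx]
    refine ⟨by field_simp; ring, ?_, ?_⟩ <;> field_simp <;> grind
  have hsq : ∀ y : K, y ^ 4 = y := fun y => by
    rcases hall y with rfl | rfl | rfl | rfl <;> grind
  let frob : Module.End F K :=
    { toFun := fun y => y ^ 2
      map_add' := fun y z => by grind
      map_smul' := fun r y => by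
        rcases eq_or_ne r 0 with rfl | hr0
        · simp
        · simp [h.eq_one_of_ne_zero hF hr0] }
  have hlin : ∀ δ : V →ₗ[F] K, (∀ x, δ (c • x) = c * δ x) → ∀ (k : K) x, δ (k • x) = k * δ x := by
    intro δ hd k x
    rcases hall k with rfl | rfl | rfl | rfl
    · simp
    · simp
    · exact hd x
    · rw [add_smul, one_smul, map_add, hd]; ring
  obtain ⟨D, hD, hDx⟩ := hdec δ hδ
  by_cases hD0 : D = 0
  · refine hlin δ (fun x => ?_) k x
    have := (hDx x).1
    rw [hD0, LinearMap.zero_apply] at this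
    linear_combination -this
  · exfalso
    let Φ₀ : V →ₗ[K] K :=
      { toFun := fun x => D x ^ 2
        map_add' := fun y z => by rw [map_add]; grind
        map_smul' := fun k y => by
          rcases hall k with rfl | rfl | rfl | rfl
          · simp
          · simp
          · rw [(hDx y).2.1, RingHom.id_apply, smul_eq_mul]; grind
          · rw [add_smul, one_smul, map_add, (hDx y).2.1, RingHom.id_apply, smul_eq_mul]; grind }
    have hΦ₀u : Φ₀ u = 0 := by
      have := hD.1 1
      rw [one_smul] at this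
      simp [Φ₀, this]
    obtain ⟨v₀, hv₀⟩ : ∃ v, Φ₀ v ≠ 0 := by
      by_contra hh
      simp only [not_exists, not_not] at hh
      refine hD0 (LinearMap.ext fun v => ?_)
      have := hh v
      simpa [Φ₀] using this
    have hfun : ∀ Φ : V →ₗ[K] K, Φ u = 0 → frob ∘ₗ Φ.restrictScalars F ∈ rootSet G u := by
      intro Φ hΦ
      by_cases hΦ0 : Φ = 0
      · rw [hΦ0]
        convert rootSet_zero (K := K) G u using 1
        ext y; simp [frob]
      obtain ⟨v₁, hv₁⟩ : ∃ v, Φ v ≠ 0 := by
        by_contra hh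
        simp only [not_exists, not_not] at hh
        exact hΦ0 (LinearMap.ext hh)
      obtain ⟨z, hz0, hz1⟩ : ∃ z, Φ₀ z ≠ 0 ∧ Φ z ≠ 0 := by
        by_cases e0 : Φ v₀ = 0
        · by_cases e1 : Φ₀ v₁ = 0
          · exact ⟨v₀ + v₁, by simp [e1, hv₀], by simp [e0, hv₁]⟩
          · exact ⟨v₁, e1, hv₁⟩
        · exact ⟨v₀, hv₀, e0⟩
      set z' := (Φ z)⁻¹ • z with hz'
      have hz'1 : Φ z' = 1 := by simp [hz', hz1]
      set f := LinearMap.transvection (Φ₀ - Φ) z' with hf
      have hdet : LinearMap.det f = Φ₀ z' := by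
        rw [hf, LinearMap.transvection.det]; simp [hz'1]
      set e : V ≃ₗ[K] V := LinearMap.equivOfDetNeZero f (by
        rw [hdet]; simp [hz', hz0, hz1]) with he
      have hex : ∀ y, e y = y + (Φ₀ y - Φ y) • z' := fun y => rfl
      have heu : ∀ k : K, (e.restrictScalars F) (k • u) = (LinearMap.id : K →ₗ[F] K) k • u :=
        fun k => by
          show e (k • u) = k • u
          rw [hex, map_smul, map_smul, hΦ₀u, hΦ]; simp
      convert rootSet_conj G (h.mem_all hF e) heu hu hD using 1
      refine LinearMap.ext fun y => ?_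
      obtain ⟨w, rfl⟩ := e.surjective y
      have hw : ((e.restrictScalars F)⁻¹ : V ≃ₗ[F] V) (e w) = w := e.symm_apply_apply w
      have hΦe : Φ (e w) = Φ₀ w := by rw [hex, map_add, map_smul, hz'1]; simp
      simp only [LinearMap.comp_apply, LinearMap.restrictScalars_apply, LinearEquiv.coe_coe,
        LinearMap.id_apply, hw, hΦe]
      show (D w ^ 2) ^ 2 = D w
      rw [← pow_mul]
      exact hsq _
    have hfM : frob ∈ multipliers G u := by
      intro ε hε
      obtain ⟨E, hE, hEx⟩ := hdec ε hε
      let P : V →ₗ[K] K :=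
        { toFun := fun y => (ε - E) y
          map_add' := map_add _
          map_smul' := fun k y => hlin _ (fun z => (hEx z).2.2) k y }
      let Q : V →ₗ[K] K :=
        { toFun := fun y => E y ^ 2
          map_add' := fun y z => by rw [map_add]; grind
          map_smul' := fun k y => by
            rcases hall k with rfl | rfl | rfl | rfl
            · simp
            · simp
            · rw [(hEx y).2.1, RingHom.id_apply, smul_eq_mul]; grind
            · rw [add_smul, one_smul, map_add, (hEx y).2.1, RingHom.id_apply, smul_eq_mul]; grind }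
      have hE1 : E u = 0 := by simpa using hE.1 1
      have hε1 : ε u = 0 := by simpa using hε.1 1
      have := rootSet_add G (hfun P (by simp [P, hE1, hε1]))
        (h.rootSet_functional (χ := Q) (by simp [Q, hE1]))
      convert this using 1
      refine LinearMap.ext fun y => ?_
      show ε y ^ 2 = (ε y - E y) ^ 2 + E y ^ 2
      grind
    obtain ⟨k', hk'⟩ := hM _ hfM
    have h1 : (1 : K) ^ 2 = k' * 1 := LinearMap.congr_fun hk' 1
    have h2 : c ^ 2 = k' * c := LinearMap.congr_fun hk' c
    grind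

/-- With only the multiplications as multipliers, the fixer of `u` and `c u` is `K`-linear. -/
lemma fixer_linear {c : K} (hc : c ∉ Set.range (algebraMap F K)) {u : V} (hu : u ≠ 0)
    (hM : ∀ X ∈ multipliers G u, ∃ k : K, X = LinearMap.mulLeft F k)
    {g : V ≃ₗ[F] V} (hg : g ∈ G) (hgu : g u = u) (hgc : g (c • u) = c • u) :
    ∀ (k : K) (x : V), g (k • x) = k • g x := by
  classical
  obtain ⟨-, hall⟩ := h.cases_four hF hr hc
  have hline : ∀ (g : V ≃ₗ[F] V), g u = u → g (c • u) = c • u → ∀ k : K, g (k • u) = k • u := by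
    intro g h1 h2 k
    rcases hall k with rfl | rfl | rfl | rfl
    · simp
    · simpa using h1
    · exact h2
    · rw [add_smul, one_smul, map_add, h1, h2]
  have hmod : ∀ (k : K) (x : V), g (k • x) - k • g x ∈ K ∙ u := by
    intro k x
    by_contra hh
    obtain ⟨χ, h1, h2⟩ := exists_functional_one hh
    have hgi : (g⁻¹ : V ≃ₗ[F] V) ∈ G := G.inv_mem hg
    have hi : ∀ j : K, (g⁻¹ : V ≃ₗ[F] V) (j • u) = (LinearMap.id : K →ₗ[F] K) j • u :=
      hline _ (g.symm_apply_eq.mpr hgu.symm) (g.symm_apply_eq.mpr hgc.symm)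
    have hd := rootSet_conj G hgi hi hu (h.rootSet_functional h1)
    have := h.rootSet_linear hF hr hc hu hM hd k x
    simp only [inv_inv, LinearMap.comp_apply, LinearEquiv.coe_coe, LinearMap.id_apply,
      LinearMap.restrictScalars_apply] at this
    rw [map_sub, this, map_smul, smul_eq_mul, sub_self] at h2
    exact zero_ne_one h2
  have hli : LinearIndepOn K id ({u} : Set V) :=
    (linearIndepOn_singleton_iff (R := K) (v := id)).mpr hu
  let b := Basis.extend hli
  let i₀ : hli.extend (Set.subset_univ _) := ⟨u, Basis.subset_extend hli (Set.mem_singleton u)⟩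
  have hbi : b i₀ = u := by simp [b, i₀]
  let f : V →ₗ[K] V := b.constr ℕ fun i => g (b i)
  have hf : ∀ x, g x - f x ∈ K ∙ u := by
    intro x
    have hx := b.mem_span x
    induction hx using Submodule.span_induction with
    | mem y hy => obtain ⟨i, rfl⟩ := hy; simp [f]
    | zero => simp
    | add y z _ _ hy hz =>
      have := (K ∙ u).add_mem hy hz
      convert this using 1
      simp; abel
    | smul k y _ hy =>
      have := (K ∙ u).add_mem (hmod k y) ((K ∙ u).smul_mem k hy)
      convert this using 1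
      simp [smul_sub]
  have hfu : ∀ k : K, f (k • u) = k • u := fun k => by
    have h1 : f u = g u := by
      calc f u = f (b i₀) := by rw [hbi]
        _ = g (b i₀) := b.constr_basis ℕ _ i₀
        _ = g u := by rw [hbi]
    rw [map_smul, h1, hgu]
  have hinj : Function.Injective f := by
    rw [← LinearMap.ker_eq_bot, LinearMap.ker_eq_bot']
    intro x hx
    have h1 := hf x
    rw [hx, sub_zero] at h1
    obtain ⟨k, hk⟩ := Submodule.mem_span_singleton.mp h1
    have hxk : x = k • u := g.injective (by rw [← hk, hline g hgu hgc k])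
    rw [hxk, hfu] at hx
    rw [hxk, hx]
  set e : V ≃ₗ[K] V := LinearEquiv.ofBijective f ⟨hinj, LinearMap.injective_iff_surjective.mp hinj⟩
    with he
  have hef : ∀ x, e x = f x := fun x => rfl
  set t : V ≃ₗ[F] V := (e.restrictScalars F)⁻¹ * g with ht
  have htx : ∀ x, t x - x ∈ K ∙ u := by
    intro x
    obtain ⟨k, hk⟩ := Submodule.mem_span_singleton.mp (hf x)
    refine Submodule.mem_span_singleton.mpr ⟨k, e.injective ?_⟩
    rw [map_sub, show e (t x) = g x from e.apply_symm_apply (g x), map_smul, hef, hef, ← hk]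
    rw [show f u = u by simpa using hfu 1]
  obtain ⟨ξ, -, hξ⟩ := exists_functional (K := K) (W := ⊥) (x := u) (by simpa using hu)
  let δ : V →ₗ[F] K := (ξ.restrictScalars F) ∘ₗ (t.toLinearMap - LinearMap.id)
  have hδx : ∀ x, t x = x + δ x • u := by
    intro x
    obtain ⟨k, hk⟩ := Submodule.mem_span_singleton.mp (htx x)
    have : δ x = k := by
      show ξ (t x - x) = k
      rw [← hk, map_smul, hξ, smul_eq_mul, mul_one]
    rw [this, hk, add_sub_cancel]
  have hδ : δ ∈ rootSet G u := by
    refine ⟨fun k => ?_, t, G.mul_mem (G.inv_mem (h.mem_all hF e)) hg, hδx⟩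
    have h1 : t (k • u) = k • u := by
      show e.symm (g (k • u)) = k • u
      rw [hline g hgu hgc k]
      exact e.symm_apply_eq.mpr (by rw [hef, hfu])
    show ξ (t (k • u) - k • u) = 0
    rw [h1, sub_self, map_zero]
  intro k x
  have hg' : ∀ y, g y = e (t y) := fun y => (e.apply_symm_apply (g y)).symm
  rw [hg', hg', hδx, hδx, h.rootSet_linear hF hr hc hu hM hδ k x, ← map_smul, smul_add, mul_smul]

lemma not_semi_false_three (hm : 3 ≤ finrank K V) {c : K}
    (hc : c ∉ Set.range (algebraMap F K)) (hns : ∃ g ∈ G, ¬ IsSemi K g)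
    (hM : ∀ u : V, u ≠ 0 → ∀ X ∈ multipliers G u, ∃ k : K, X = LinearMap.mulLeft F k) : False := by
  classical
  obtain ⟨-, hall⟩ := h.cases_four hF hr hc
  obtain ⟨v, hv⟩ := exists_linearIndependent_of_le_finrank (R := K) (M := V) hm
  set u := v 0 with hudef
  set w := v 1 with hwdef
  set x₃ := v 2 with hxdef
  have hu : u ≠ 0 := hv.ne_zero 0
  have hco : ∀ α β γ : K, α • u + β • w + γ • x₃ = 0 → α = 0 ∧ β = 0 ∧ γ = 0 := by
    intro α β γ he
    have := Fintype.linearIndependent_iff.mp hv ![α, β, γ] (by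
      rw [Fin.sum_univ_three]; simpa [hudef, hwdef, hxdef] using he)
    exact ⟨this 0, this 1, this 2⟩
  have hw : w ∉ K ∙ u := by
    rw [Submodule.mem_span_singleton]
    rintro ⟨k, hk⟩
    have := hco k (-1) 0 (by rw [hk]; simp)
    simp at this
  obtain ⟨g, hg, hgu, hgc⟩ := h.exists_pair hF hr hns hc hu hw
  have hy₀ : g.symm x₃ ∉ K ∙ u := by
    rw [Submodule.mem_span_singleton]
    rintro ⟨k, hk⟩
    have hk' : g (k • u) = x₃ := by rw [hk, g.apply_symm_apply]
    have : ∃ α β : K, g (k • u) = α • u + β • w := by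
      rcases hall k with rfl | rfl | rfl | rfl
      · exact ⟨0, 0, by simp⟩
      · exact ⟨1, 0, by simp [hgu]⟩
      · exact ⟨0, 1, by simp [hgc]⟩
      · exact ⟨1, 1, by rw [add_smul, one_smul, map_add, hgc, hgu]; simp [add_comm]⟩
    obtain ⟨α, β, hab⟩ := this
    have := hco α β (-1) (by rw [← hab, hk']; simp)
    simp at this
  obtain ⟨ρ, hρ⟩ := exists_equiv_of_indep (indep_pair hu hw) (indep_pair hu hy₀)
  have hρu : ρ u = u := by simpa using hρ 0
  have hρw : ρ w = g.symm x₃ := by simpa using hρ 1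
  set k := g * ρ.restrictScalars F with hk
  have hkG : k ∈ G := G.mul_mem hg (h.mem_all hF ρ)
  have hku : k u = u := by simp [hk, hρu, hgu]
  have hkc : k (c • u) = w := by simp [hk, hρu, hgc]
  have hkw : k w = x₃ := by simp [hk, hρw]
  set z := k (c • w) with hz
  have hfix : ∀ s ∈ G, s u = u → s w = w → s x₃ = x₃ → s z = z := by
    intro s hs h1 h2 h3
    set s' := k⁻¹ * s * k with hs'
    have hlin := h.fixer_linear hF hr hc hu (hM u hu)
      (g := s') (G.mul_mem (G.mul_mem (G.inv_mem hkG) hs) hkG)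
      (by show k.symm (s (k u)) = u; rw [hku, h1]; exact k.symm_apply_eq.mpr hku.symm)
      (by show k.symm (s (k (c • u))) = c • u; rw [hkc, h2]; exact k.symm_apply_eq.mpr hkc.symm)
    have hw' : s' w = w := by
      show k.symm (s (k w)) = w
      rw [hkw, h3]; exact k.symm_apply_eq.mpr hkw.symm
    have := hlin c w
    rw [hw'] at this
    exact k.symm.injective (by
      show s' (c • w) = k.symm z
      rw [this, hz, k.symm_apply_apply])
  have htop : ∀ y, (∀ s ∈ G, s u = u → s w = w → s x₃ = x₃ → s y = y) →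
      ∃ a₁ a₂ b₁ b₂ : F, y = a₁ • u + a₂ • w + b₁ • x₃ + b₂ • z := by
    intro y hy
    have hspan : k.symm y ∈ Submodule.span K ({u, w} : Set V) := by
      by_contra hh
      obtain ⟨χ, h1, h2⟩ := exists_functional hh
      have hχu : χ u = 0 := h1 u (Submodule.subset_span (by simp))
      have hχw : χ w = 0 := h1 w (Submodule.subset_span (by simp))
      obtain ⟨t, ht, htx⟩ := h.mem_transvection hχu
      have h' := hy (k * t * k⁻¹) (G.mul_mem (G.mul_mem hkG ht) (G.inv_mem hkG))
        (by show k (t (k.symm u)) = u; rw [k.symm_apply_eq.mpr hku.symm, htx, hχu]; simp [hku])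
        (by show k (t (k.symm w)) = w; rw [k.symm_apply_eq.mpr hkc.symm, htx]; simp [hχu, hkc])
        (by show k (t (k.symm x₃)) = x₃; rw [k.symm_apply_eq.mpr hkw.symm, htx]; simp [hχw, hkw])
      have h'' : k (t (k.symm y)) = y := h'
      rw [htx, h2, one_smul, map_add, k.apply_symm_apply, hku] at h''
      exact hu (add_eq_left.mp h'')
    obtain ⟨α, β, hab⟩ := Submodule.mem_span_pair.mp hspan
    have hparts : ∀ j : K, ∃ a b : F, j = algebraMap F K a + algebraMap F K b * c := by
      intro j
      rcases hall j with rfl | rfl | rfl | rfl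
      · exact ⟨0, 0, by simp⟩
      · exact ⟨1, 0, by simp⟩
      · exact ⟨0, 1, by simp⟩
      · exact ⟨1, 1, by simp [add_comm]⟩
    obtain ⟨a₁, a₂, hα⟩ := hparts α
    obtain ⟨b₁, b₂, hβ⟩ := hparts β
    refine ⟨a₁, a₂, b₁, b₂, ?_⟩
    rw [← k.apply_symm_apply y, ← hab, hα, hβ, add_smul, add_smul, mul_smul, mul_smul,
      algebraMap_smul, algebraMap_smul, algebraMap_smul, algebraMap_smul]
    simp only [map_add, map_smul, hku, hkc, hkw, ← hz]
    abel
  have hzspan : z ∈ Submodule.span K ({u, w, x₃} : Set V) := by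
    by_contra hh
    obtain ⟨χ, h1, h2⟩ := exists_functional hh
    have hu' : χ u = 0 := h1 u (Submodule.subset_span (by simp))
    have hw' : χ w = 0 := h1 w (Submodule.subset_span (by simp))
    have hx' : χ x₃ = 0 := h1 x₃ (Submodule.subset_span (by simp))
    obtain ⟨t, ht, htx⟩ := h.mem_transvection hu'
    have := hfix t ht (by simp [htx, hu']) (by simp [htx, hw']) (by simp [htx, hx'])
    rw [htx, h2, one_smul] at this
    exact hu (add_eq_left.mp this)
  obtain ⟨α, β, γ, hzc⟩ := Submodule.mem_span_triple.mp hzspan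
  have hnotF : ¬ ∃ a b d : F, algebraMap F K a = α ∧ algebraMap F K b = β ∧ algebraMap F K d = γ := by
    rintro ⟨a, b, d, rfl, rfl, rfl⟩
    rw [algebraMap_smul, algebraMap_smul, algebraMap_smul] at hzc
    have : k (c • w) = k (a • u + b • (c • u) + d • w) := by
      rw [map_add, map_add, map_smul k a u, map_smul k b (c • u), map_smul k d w, hku, hkc, hkw, ← hz, hzc]
    have h2 := k.injective this
    rw [← algebraMap_smul (A := K) a u, ← algebraMap_smul (A := K) b (c • u),
      ← algebraMap_smul (A := K) d w, smul_smul, ← add_smul] at h2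
    have h3 := hco (algebraMap F K a + algebraMap F K b * c) (algebraMap F K d - c) 0 (by
      rw [sub_smul, h2]; simp)
    exact hc ⟨d, sub_eq_zero.mp h3.2.1⟩
  have key : ∀ (e : V ≃ₗ[K] V),
      (∀ s : V ≃ₗ[F] V, s u = u → s w = w → s x₃ = x₃ →
        s (e u) = e u ∧ s (e w) = e w ∧ s (e x₃) = e x₃) →
      ∃ a₁ a₂ b₁ b₂ : F, e z = a₁ • u + a₂ • w + b₁ • x₃ + b₂ • z := by
    intro e he
    refine htop _ fun s hs h1 h2 h3 => ?_
    obtain ⟨e1, e2, e3⟩ := he s h1 h2 h3
    have hconj := hfix ((e.restrictScalars F)⁻¹ * s * e.restrictScalars F)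
      (G.mul_mem (G.mul_mem (G.inv_mem (h.mem_all hF e)) hs) (h.mem_all hF e))
      (e.symm_apply_eq.mpr e1) (e.symm_apply_eq.mpr e2) (e.symm_apply_eq.mpr e3)
    exact e.symm_apply_eq.mp hconj
  have hbin : ∀ a : F, a = 0 ∨ a = 1 := fun a =>
    (eq_or_ne a 0).imp_right (h.eq_one_of_ne_zero hF)
  -- cyclic permutation
  have hli' : LinearIndependent K ![w, x₃, u] := by
    rw [Fintype.linearIndependent_iff]
    intro d hd
    rw [Fin.sum_univ_three] at hd
    simp at hd
    obtain ⟨h1, h2, h3⟩ := hco (d 2) (d 0) (d 1) (by rw [← hd]; abel)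
    intro i; fin_cases i <;> assumption
  have hli0 : LinearIndependent K ![u, w, x₃] := by
    rw [Fintype.linearIndependent_iff]
    intro d hd
    rw [Fin.sum_univ_three] at hd
    simp at hd
    obtain ⟨h1, h2, h3⟩ := hco (d 0) (d 1) (d 2) hd
    intro i; fin_cases i <;> assumption
  obtain ⟨e₁, he₁⟩ := exists_equiv_of_indep hli0 hli'
  have q1 : e₁ u = w := by simpa using he₁ 0
  have q2 : e₁ w = x₃ := by simpa using he₁ 1
  have q3 : e₁ x₃ = u := by simpa using he₁ 2
  obtain ⟨a₁, a₂, b₁, b₂, h1⟩ := key e₁ (fun s s1 s2 s3 => by simp [q1, q2, q3, s1, s2, s3])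
  rw [← hzc] at h1
  simp only [map_add, map_smul, q1, q2, q3, ← algebraMap_smul (A := K) a₁ u,
    ← algebraMap_smul (A := K) a₂ w, ← algebraMap_smul (A := K) b₁ x₃,
    ← algebraMap_smul (A := K) b₂ (α • u + β • w + γ • x₃)] at h1
  obtain ⟨p1, p2, p3⟩ := hco (γ - (algebraMap F K a₁ + algebraMap F K b₂ * α))
    (α - (algebraMap F K a₂ + algebraMap F K b₂ * β))
    (β - (algebraMap F K b₁ + algebraMap F K b₂ * γ)) (by
      simp only [sub_smul, add_smul, mul_smul]
      rw [← sub_eq_zero] at h1
      rw [← h1]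
      simp only [smul_add]
      abel)
  rw [sub_eq_zero] at p1 p2 p3
  rcases hbin b₂ with rfl | rfl
  · simp only [map_zero, zero_mul, add_zero] at p1 p2 p3
    exact hnotF ⟨a₂, b₁, a₁, p2.symm, p3.symm, p1.symm⟩
  simp only [map_one, one_mul] at p1 p2 p3
  -- the transvection `u ↦ u + w`
  have hli2 : LinearIndependent K ![u + w, w, x₃] := by
    rw [Fintype.linearIndependent_iff]
    intro d hd
    rw [Fin.sum_univ_three] at hd
    simp at hd
    obtain ⟨h1, h2, h3⟩ := hco (d 0) (d 0 + d 1) (d 2) (by rw [← hd, add_smul]; abel)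
    intro i; fin_cases i
    · exact h1
    · simpa [h1] using h2
    · exact h3
  obtain ⟨e₂, he₂⟩ := exists_equiv_of_indep hli0 hli2
  have r1 : e₂ u = u + w := by simpa using he₂ 0
  have r2 : e₂ w = w := by simpa using he₂ 1
  have r3 : e₂ x₃ = x₃ := by simpa using he₂ 2
  obtain ⟨c₁, c₂, d₁, d₂, h2⟩ := key e₂ (fun s s1 s2 s3 => by simp [r1, r2, r3, s1, s2, s3])
  rw [← hzc] at h2
  simp only [map_add, map_smul, r1, r2, r3, ← algebraMap_smul (A := K) c₁ u,
    ← algebraMap_smul (A := K) c₂ w, ← algebraMap_smul (A := K) d₁ x₃,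
    ← algebraMap_smul (A := K) d₂ (α • u + β • w + γ • x₃)] at h2
  obtain ⟨t1, t2, t3⟩ := hco (α - (algebraMap F K c₁ + algebraMap F K d₂ * α))
    (α + β - (algebraMap F K c₂ + algebraMap F K d₂ * β))
    (γ - (algebraMap F K d₁ + algebraMap F K d₂ * γ)) (by
      simp only [sub_smul, add_smul, mul_smul]
      rw [← sub_eq_zero] at h2
      rw [← h2]
      simp only [smul_add]
      abel)
  rw [sub_eq_zero] at t1 t2 t3
  have hα : ∃ a : F, algebraMap F K a = α := by
    rcases hbin d₂ with rfl | rfl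
    · exact ⟨c₁, by simpa using t1.symm⟩
    · exact ⟨c₂, by simp only [map_one, one_mul] at t2; linear_combination -t2⟩
  obtain ⟨a, ha⟩ := hα
  exact hnotF ⟨a, a - a₂, a + a₁, ha, by rw [map_sub, ha]; linear_combination p2,
    by rw [map_add, ha]; linear_combination -p1⟩

end Hyp

end CfsgLib.ExtFieldMax
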