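import Mathlib
import Cfsg.Agent.Lib.ExtFieldMax.Binary

/-!
The case of four dimensions over the field of two elements: a count modulo five of the conjugates
of the field of four elements; and the general statement that all transvections occur.
-/

set_option autoImplicit false
set_option linter.unusedSectionVars false
set_option linter.style.haveILetI false

namespace CfsgLib.ExtFieldMax

open Module

variable {F K V : Type*} [Field F] [Fintype F] [Field K] [Algebra F K] [AddCommGroup V]
  [Module F V] [Module K V] [IsScalarTower F K V] [FiniteDimensional F V]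
  [FiniteDimensional F K] [FiniteDimensional K V]

variable {G : Subgroup (V ≃ₗ[F] V)}

namespace Hyp

variable (h : Hyp G K) (hF : Fintype.card F = 2) (hr : finrank F K = 2)
include h hF hr

omit hF hr in
/-- A map whose conjugate of `c` commutes with a `K`-map `f`, `f² = c f + 1`, is semilinear. -/
lemma semi_of_commute (hF : Fintype.card F = 2) (hr : finrank F K = 2) (hm : finrank K V = 2)
    {c : K} (hc : c ∉ Set.range (algebraMap F K)) (f : V ≃ₗ[K] V)
    (hff : ∀ v, f (f v) = c • f v + v) (gl : V ≃ₗ[F] V)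
    (hCf' : ∀ v, gl (c • gl.symm (f v)) = f (gl (c • gl.symm v))) : IsSemi K gl := by
  obtain ⟨hcc, hall⟩ := h.cases_four hF hr hc
  have two := h.two_eq_zero hF hr
  have hf4 : ∀ v, f (f (f (f v))) = f v + c • v := by
    intro v
    simp only [hff, map_add, map_smul, smul_add, smul_smul]
    rw [hcc]
    match_scalars <;> grind
  let C : V → V := fun v => gl (c • gl.symm v)
  have hCadd : ∀ v v', C (v + v') = C v + C v' := fun v v' => by simp [C]
  have hCf : ∀ v, C (f v) = f (C v) := hCf'
  have hCc : ∀ v, C (c • v) = c • C v := by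
    intro v
    have e1 : c • v = f (f (f (f v))) + f v := by
      rw [hf4, add_comm (f v), add_assoc, h.add_self' hF hr, add_zero]
    rw [e1, hCadd]
    simp only [hCf]
    rw [hf4, add_comm (f (C v)), add_assoc, h.add_self' hF hr, add_zero]
  have hCC : ∀ v, C (C v) = C v + v := by
    intro v
    show gl (c • gl.symm (gl (c • gl.symm v))) = _
    rw [gl.symm_apply_apply, smul_smul, hcc, add_smul, one_smul, map_add, gl.apply_symm_apply]
  let L : V →ₗ[K] V :=
    { toFun := C
      map_add' := hCadd
      map_smul' := fun k v => by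
        rcases hall k with rfl | rfl | rfl | rfl
        · simp [C]
        · simp
        · exact hCc v
        · rw [add_smul, one_smul, hCadd, hCc, RingHom.id_apply, add_smul, one_smul] }
  have hfac : ∀ v, (L - c • LinearMap.id : V →ₗ[K] V) ((L - (c + 1) • LinearMap.id : V →ₗ[K] V) v) = 0 := by
    intro v
    have hL : ∀ w, L w = C w := fun w => rfl
    simp only [LinearMap.sub_apply, LinearMap.smul_apply, LinearMap.id_apply, map_sub, map_smul,
      hL, hCC, smul_smul, smul_sub]
    match_scalars <;> grind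
  have hCeq : ∃ j : K, ∀ v, C v = j • v := by
    by_cases hinj : Function.Injective (L - c • LinearMap.id : V →ₗ[K] V)
    · refine ⟨c + 1, fun v => ?_⟩
      have := hinj ((hfac v).trans (map_zero _).symm)
      simpa [sub_eq_zero, L] using this
    · refine ⟨c, fun v => ?_⟩
      rw [← LinearMap.ker_eq_bot] at hinj
      obtain ⟨x, hx, hx0⟩ := Submodule.exists_mem_ne_zero_of_ne_bot hinj
      set N := LinearMap.ker (L - c • LinearMap.id : V →ₗ[K] V) with hN
      have hfxN : f x ∈ N := by
        simp only [hN, LinearMap.mem_ker, LinearMap.sub_apply, LinearMap.smul_apply,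
          LinearMap.id_apply] at hx ⊢
        show C (f x) - c • f x = 0
        rw [hCf, ← map_smul, ← map_sub, show C x - c • x = 0 from hx, map_zero]
      have hind : LinearIndependent K ![x, f x] := by
        refine (LinearIndependent.pair_iff' hx0).2 fun k hk => ?_
        have h1 : f (f x) = c • f x + x := by simp [hff]
        rw [← hk, map_smul, ← hk, smul_smul, smul_smul] at h1
        have h2 : k * k = c * k + 1 := smul_left_injective K hx0
          (show (k * k) • x = (c * k + 1) • x by rw [h1, add_smul, one_smul])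
        rcases hall k with rfl | rfl | rfl | rfl <;> grind
      have htop : Submodule.span K (Set.range ![x, f x]) = ⊤ :=
        hind.span_eq_top_of_card_eq_finrank (by rw [Fintype.card_fin, hm])
      have hv : v ∈ N := by
        have hle : Submodule.span K (Set.range ![x, f x]) ≤ N := by
          rw [Submodule.span_le]
          rintro _ ⟨i, rfl⟩
          fin_cases i
          · exact hx
          · exact hfxN
        exact hle (htop ▸ Submodule.mem_top)
      simpa [hN, sub_eq_zero, L] using hv
  obtain ⟨j, hj⟩ := hCeq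
  have hgc : ∀ v, gl (c • v) = j • gl v := fun v => by
    have := hj (gl v)
    simpa [C] using this
  intro k
  rcases hall k with rfl | rfl | rfl | rfl
  · exact ⟨0, fun v => by simp⟩
  · exact ⟨1, fun v => by simp⟩
  · exact ⟨j, hgc⟩
  · exact ⟨j + 1, fun v => by rw [add_smul, one_smul, map_add, hgc, add_smul, one_smul]⟩

lemma not_semi_false_two (hm : finrank K V = 2) {c : K}
    (hc : c ∉ Set.range (algebraMap F K)) (hns : ∃ g ∈ G, ¬ IsSemi K g)
    (hM : ∀ u : V, u ≠ 0 → ∀ X ∈ multipliers G u, ∃ k : K, X = LinearMap.mulLeft F k) : False := by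
  classical
  obtain ⟨hcc, hall⟩ := h.cases_four hF hr hc
  have two := h.two_eq_zero hF hr
  have hVfin : Finite V := Module.finite_of_finite F
  haveI := Fintype.ofFinite V
  have hKfin : Finite K := Module.finite_of_finite F
  have hAfin : Finite (V ≃ₗ[F] V) :=
    Finite.of_injective (fun e : V ≃ₗ[F] V => (e : V → V)) DFunLike.coe_injective
  obtain ⟨u, hu0⟩ : ∃ u : V, u ≠ 0 := by
    obtain ⟨w, hw⟩ := exists_notMem_span h.two_le (0 : V)
    exact ⟨w, fun e => hw (by simp [e])⟩
  -- the semilinear members
  let S₀ : Subgroup ↥G :=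
    { carrier := {g | IsSemi K (g : V ≃ₗ[F] V)}
      one_mem' := fun k => ⟨k, fun v => rfl⟩
      mul_mem' := by
        intro a b ha hb k
        obtain ⟨k', hk'⟩ := hb k
        obtain ⟨k'', hk''⟩ := ha k'
        exact ⟨k'', fun v => by simp [hk', hk'']⟩
      inv_mem' := by
        intro a ha k
        choose σ hσ using ha
        have hinj : Function.Injective σ := fun x y hxy => by
          have h1 := hσ x u
          rw [hxy, ← hσ y u] at h1
          exact smul_left_injective K hu0 ((a : V ≃ₗ[F] V).injective h1)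
        obtain ⟨j, rfl⟩ := (Finite.injective_iff_surjective.mp hinj) k
        refine ⟨j, fun v => (a : V ≃ₗ[F] V).injective ?_⟩
        rw [Subgroup.coe_inv, hσ]
        show (a : V ≃ₗ[F] V) ((a : V ≃ₗ[F] V).symm _) = σ j • (a : V ≃ₗ[F] V) ((a : V ≃ₗ[F] V).symm v)
        rw [LinearEquiv.apply_symm_apply, LinearEquiv.apply_symm_apply] }
  -- the orbit of the pair
  have hnl : ∀ {a : V}, a ≠ 0 → ∃ w, w ∉ K ∙ a := fun {a} _ => exists_notMem_span h.two_le a
  have hc' : c + 1 ∉ Set.range (algebraMap F K) := fun ⟨a, ha⟩ =>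
    hc ⟨a - 1, by rw [map_sub, ha, map_one, add_sub_cancel_right]⟩
  set p₀ : V × V := (u, c • u) with hp₀
  set P : Finset (V × V) := (Finset.univ.erase (0 : V)).offDiag with hP
  have hp₀P : p₀ ∈ P := by
    have hc0 : c ≠ 0 := fun e => hc ⟨0, by rw [e, map_zero]⟩
    have hc1 : c ≠ 1 := fun e => hc ⟨1, by rw [e, map_one]⟩
    simp only [hP, hp₀, Finset.mem_offDiag, Finset.mem_erase, Finset.mem_univ, and_true]
    exact ⟨hu0, smul_ne_zero hc0 hu0, fun e => hc1 (smul_left_injective K hu0
      (show c • u = (1 : K) • u by rw [one_smul, ← e]))⟩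
  have horb : MulAction.orbit ↥G p₀ = (↑P : Set (V × V)) := by
    ext ⟨a, b⟩
    simp only [hP, Finset.mem_coe, Finset.mem_offDiag, Finset.mem_erase, Finset.mem_univ, and_true]
    constructor
    · rintro ⟨g, hg⟩
      simp only [hP, hp₀, Finset.mem_offDiag, Finset.mem_erase, Finset.mem_univ, and_true] at hp₀P
      simp only [hp₀, Prod.smul_mk, Prod.mk.injEq] at hg
      obtain ⟨rfl, rfl⟩ := hg
      refine ⟨fun e => hp₀P.1 ?_, fun e => hp₀P.2.1 ?_, fun e => hp₀P.2.2 ?_⟩
      · exact (g : V ≃ₗ[F] V).map_eq_zero_iff.mp e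
      · exact (g : V ≃ₗ[F] V).map_eq_zero_iff.mp e
      · exact (g : V ≃ₗ[F] V).injective e
    · rintro ⟨ha, hb, hab⟩
      obtain ⟨e, he, hea, hel⟩ := h.exists_map hu0 ha
      have hto : ∀ b', (∃ g ∈ G, g a = a ∧ g (c • a) = b') → (a, b') ∈ MulAction.orbit ↥G p₀ := by
        rintro b' ⟨g, hg, h1, h2⟩
        refine ⟨⟨g * e, G.mul_mem hg he⟩, ?_⟩
        show (g (e u), g (e (c • u))) = (a, b')
        rw [hea, hel, hea, h1, h2]
      refine hto b ?_
      by_cases hbK : b ∈ K ∙ a
      · obtain ⟨k, rfl⟩ := Submodule.mem_span_singleton.mp hbK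
        rcases hall k with rfl | rfl | rfl | rfl
        · exact absurd (zero_smul K a) hb
        · exact absurd (one_smul K a).symm hab
        · exact ⟨1, G.one_mem, rfl, rfl⟩
        · obtain ⟨w, hw⟩ := hnl ha
          obtain ⟨g₁, hg₁, a₁, b₁⟩ := h.exists_pair hF hr hns hc ha hw
          obtain ⟨g₂, hg₂, a₂, b₂⟩ := h.exists_pair hF hr hns hc' ha hw
          refine ⟨g₂⁻¹ * g₁, G.mul_mem (G.inv_mem hg₂) hg₁, ?_, ?_⟩
          · show g₂.symm (g₁ a) = a
            rw [a₁]; exact g₂.symm_apply_eq.mpr a₂.symm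
          · show g₂.symm (g₁ (c • a)) = _
            rw [b₁]; exact g₂.symm_apply_eq.mpr b₂.symm
      · exact h.exists_pair hF hr hns hc ha hbK
  have hcardV : Fintype.card V = 16 := by
    rw [Module.card_eq_pow_finrank (K := F), ← Module.finrank_mul_finrank F K V, hm, hr, hF]; rfl
  set St := MulAction.stabilizer ↥G p₀ with hSt
  have hidx : St.index = 210 := by
    rw [hSt, MulAction.index_stabilizer, horb, Set.ncard_coe_finset, hP, Finset.offDiag_card,
      Finset.card_erase_of_mem (Finset.mem_univ _), Finset.card_univ, hcardV]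
  have hStS : St ≤ S₀ := by
    intro g hg
    have hg' : ((g : V ≃ₗ[F] V) u, (g : V ≃ₗ[F] V) (c • u)) = (u, c • u) := hg
    rw [Prod.mk.injEq] at hg'
    exact fun k => ⟨k, h.fixer_linear hF hr hc hu0 (hM u hu0) g.2 hg'.1 hg'.2 k⟩
  set o := (MulAction.orbit ↥S₀ p₀).ncard with ho
  have hmul : o * S₀.index = 210 := by
    rw [← hidx, ← Subgroup.relIndex_mul_index hStS, Subgroup.relIndex, ho,
      ← MulAction.index_stabilizer]
    rfl
  have holow : 15 ≤ o := by
    have hsub : ((Finset.univ.erase (0 : V)).image fun a => (a, c • a) : Set (V × V)) ⊆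
        MulAction.orbit ↥S₀ p₀ := by
      intro p hp
      simp only [Finset.coe_image, Set.mem_image, Finset.mem_coe, Finset.mem_erase, Finset.mem_univ,
        and_true] at hp
      obtain ⟨a, ha, rfl⟩ := hp
      obtain ⟨e, he, hea, hel⟩ := h.exists_map hu0 ha
      refine ⟨⟨⟨e, he⟩, fun k => ⟨k, hel k⟩⟩, ?_⟩
      show (e u, e (c • u)) = (a, c • a)
      rw [hel, hea]
    have := Set.ncard_le_ncard hsub (Set.toFinite _)
    rw [Set.ncard_coe_finset, Finset.card_image_of_injective _ (fun a b e => congrArg Prod.fst e),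
      Finset.card_erase_of_mem (Finset.mem_univ _), Finset.card_univ, hcardV] at this
    exact this
  have hoc : ∀ (g : V ≃ₗ[F] V) (c' : K), (∀ v, g (c • v) = c' • g v) → c' = c ∨ c' = c + 1 := by
    intro g c' hg
    have h1 : g ((c * c) • u) = (c' * c') • g u := by rw [mul_smul, hg, hg, mul_smul]
    rw [hcc, add_smul, one_smul, map_add, hg] at h1
    have hgu : g u ≠ 0 := fun e => hu0 (g.map_eq_zero_iff.mp e)
    have h2 : c' + 1 = c' * c' := smul_left_injective K hgu
      (show (c' + 1) • g u = (c' * c') • g u by rw [add_smul, one_smul]; exact h1)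
    have h3 : (c' - c) * (c' - (c + 1)) = 0 := by grind
    exact (mul_eq_zero.mp h3).imp sub_eq_zero.mp sub_eq_zero.mp
  have hohigh : o ≤ 30 := by
    have hsub : MulAction.orbit ↥S₀ p₀ ⊆
        ((Finset.univ.erase (0 : V)).image fun a => (a, c • a)) ∪
          ((Finset.univ.erase (0 : V)).image fun a => (a, (c + 1) • a) : Finset (V × V)) := by
      rintro p ⟨s, rfl⟩
      obtain ⟨k', hk'⟩ := s.2 c
      have hs0 : ((s : ↥G) : V ≃ₗ[F] V) u ≠ 0 := fun e => hu0 (LinearEquiv.map_eq_zero_iff _ |>.mp e)
      simp only [Finset.coe_image, Set.mem_union, Set.mem_image, Finset.mem_coe,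
        Finset.mem_erase, Finset.mem_univ, and_true]
      rcases hoc _ k' hk' with rfl | rfl
      · exact Or.inl ⟨_, hs0, Prod.ext rfl (hk' u).symm⟩
      · exact Or.inr ⟨_, hs0, Prod.ext rfl (hk' u).symm⟩
    have h1 := Set.ncard_le_ncard hsub (Set.toFinite _)
    rw [← Finset.coe_union, Set.ncard_coe_finset] at h1
    refine h1.trans ((Finset.card_union_le _ _).trans ?_)
    rw [Finset.card_image_of_injective _ (fun a b e => congrArg Prod.fst e),
      Finset.card_image_of_injective _ (fun a b e => congrArg Prod.fst e),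
      Finset.card_erase_of_mem (Finset.mem_univ _), Finset.card_univ, hcardV]
  -- the element of order five
  haveI := Fintype.ofFinite K
  let b := Module.finBasisOfFinrankEq K V hm
  let f₀ : V →ₗ[K] V := b.constr ℕ ![b 1, b 0 + c • b 1]
  have hff : ∀ v, f₀ (f₀ v) = c • f₀ v + v := by
    have : f₀ ∘ₗ f₀ = c • f₀ + LinearMap.id := by
      refine b.ext fun i => ?_
      fin_cases i
      · simp [f₀, add_comm]
      · simp [f₀, smul_add]; abel
    exact fun v => LinearMap.congr_fun this v
  have hbne : (b 1 : V) ≠ 0 := b.ne_zero 1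
  let f : V ≃ₗ[K] V := LinearEquiv.ofLinearMap f₀ (f₀ - c • LinearMap.id)
    (LinearMap.ext fun v => by simp [map_sub, map_smul, hff])
    (LinearMap.ext fun v => by simp [hff])
  have hfx : ∀ v, f v = f₀ v := fun v => rfl
  set fG : ↥G := ⟨f.restrictScalars F, h.mem_all hF f⟩ with hfG
  have hf4 : ∀ v, f (f (f (f v))) = f v + c • v := by
    intro v
    simp only [hfx, hff, map_add, map_smul, smul_add, smul_smul]
    rw [hcc]
    match_scalars <;> grind
  have hf5 : fG ^ 5 = 1 := by
    refine Subtype.ext (LinearEquiv.ext fun v => ?_)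
    show f (f (f (f (f v)))) = v
    rw [hf4]
    simp only [hfx, hff]
    rw [add_right_comm, ← add_smul, h.add_self hF hr c, zero_smul, zero_add]
  haveI : Fact (Nat.Prime 5) := ⟨by norm_num⟩
  have hZ : IsPGroup 5 (Subgroup.zpowers fG) := by
    rintro ⟨g, n, rfl⟩
    refine ⟨1, Subtype.ext ?_⟩
    show (fG ^ n) ^ (5 ^ 1) = 1
    rw [pow_one, ← zpow_natCast (fG ^ n), ← zpow_mul, mul_comm, zpow_mul, zpow_natCast, hf5,
      one_zpow]
  have hfixed : MulAction.fixedPoints (Subgroup.zpowers fG) (↥G ⧸ S₀) = {((1 : ↥G) : ↥G ⧸ S₀)} := by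
    refine Set.eq_singleton_iff_unique_mem.mpr ⟨?_, ?_⟩
    · rintro ⟨g, hg⟩
      have hle : Subgroup.zpowers fG ≤ S₀ :=
        Subgroup.zpowers_le.mpr (show IsSemi K _ from fun k => ⟨k, fun v => map_smul f k v⟩)
      show ((g * 1 : ↥G) : ↥G ⧸ S₀) = _
      rw [QuotientGroup.eq, mul_one, mul_one]
      exact S₀.inv_mem (hle hg)
    · intro q
      induction q using QuotientGroup.induction_on with
      | _ g =>
      intro hq
      have h1 : ((fG * g : ↥G) : ↥G ⧸ S₀) = (g : ↥G ⧸ S₀) := hq ⟨fG, Subgroup.mem_zpowers _⟩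
      rw [QuotientGroup.eq] at h1
      have hs : g⁻¹ * fG * g ∈ S₀ := by
        have := S₀.inv_mem h1
        simpa [mul_assoc] using this
      rw [QuotientGroup.eq, mul_one]
      refine S₀.inv_mem ?_
      obtain ⟨c', hc'⟩ := hs c
      set s : ↥G := g⁻¹ * fG * g with hsdef
      have hs5 : s ^ 5 = 1 := by
        rw [hsdef, show g⁻¹ * fG * g = g⁻¹ * fG * (g⁻¹)⁻¹ by rw [inv_inv], conj_pow, hf5]
        group
      have hc'c : c' = c := by
        rcases hoc _ c' hc' with e | e
        · exact e
        exfalso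
        subst e
        have hn : ∀ n : ℕ, ∀ v, ((s ^ n : ↥G) : V ≃ₗ[F] V) (c • v) =
            (c + (n : K)) • ((s ^ n : ↥G) : V ≃ₗ[F] V) v := by
          intro n
          induction n with
          | zero => simp
          | succ n ih =>
            intro v
            rw [pow_succ', Subgroup.coe_mul, LinearEquiv.mul_apply, LinearEquiv.mul_apply, ih,
              add_smul, map_add, Nat.cast_smul_eq_nsmul, map_nsmul, hc',
              ← Nat.cast_smul_eq_nsmul K, ← add_smul]
            congr 1
            push_cast; ring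
        have h5 := hn 5 u
        rw [hs5] at h5
        simp only [OneMemClass.coe_one, LinearEquiv.coe_one, id_eq] at h5
        have h6 : c = c + ((5 : ℕ) : K) := smul_left_injective K hu0 h5
        have h7 : ((5 : ℕ) : K) = 0 := by linear_combination -h6
        have h8 : (1 : K) = 0 := by
          have : ((5 : ℕ) : K) = 2 * 2 + 1 := by norm_num
          rw [this, two] at h7; simp at h7
        exact one_ne_zero h8
      subst hc'c
      -- `C = g c g⁻¹` commutes with `f`
      refine h.semi_of_commute hF hr hm hc f (fun v => hff v) (g : V ≃ₗ[F] V) fun v => ?_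
      have h1 := hc' ((g : V ≃ₗ[F] V).symm v)
      have h2 : ∀ y, ((s : ↥G) : V ≃ₗ[F] V) y = (g : V ≃ₗ[F] V).symm (f ((g : V ≃ₗ[F] V) y)) :=
        fun y => rfl
      rw [h2, h2, (g : V ≃ₗ[F] V).apply_symm_apply] at h1
      rw [← h1, (g : V ≃ₗ[F] V).apply_symm_apply]
  have hmod := hZ.card_modEq_card_fixedPoints (↥G ⧸ S₀)
  rw [hfixed] at hmod
  simp only [Nat.card_unique] at hmod
  rw [← Subgroup.index_eq_card] at hmod
  have hpos : 0 < S₀.index := Nat.pos_of_ne_zero Subgroup.index_ne_zero_of_finite
  have hle : S₀.index ≤ 14 := by nlinarith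
  have hge : 7 ≤ S₀.index := by nlinarith
  unfold Nat.ModEq at hmod
  have : S₀.index = 11 := by omega
  rw [this] at hmul
  omega

end Hyp

/-- A good element of `K` unless `|F| = |K : F| = 2`. -/
lemma exists_good (hp : (finrank F K).Prime) (hne : ¬ (Fintype.card F = 2 ∧ finrank F K = 2)) :
    ∃ c : K, c ∉ Set.range (algebraMap F K) ∧ ∀ τ : K →ₐ[F] K, τ c ≠ c + 1 := by
  classical
  haveI : Finite K := Module.finite_of_finite F
  haveI := Fintype.ofFinite K
  set q := Fintype.card F with hq
  set r := finrank F K with hr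
  by_contra hh
  simp only [not_exists, not_and, not_forall, not_not] at hh
  set T : Finset (K →ₐ[F] K) := Finset.univ.filter fun τ => τ ≠ AlgHom.id F K with hT
  have hTcard : T.card ≤ r - 1 := by
    rw [hT, Finset.filter_ne', Finset.card_erase_of_mem (Finset.mem_univ _), Finset.card_univ]
    exact Nat.sub_le_sub_right AlgHom.card_le 1
  have hsol : ∀ τ ∈ T, (Finset.univ.filter fun c : K => τ c = c + 1).card ≤ q := by
    intro τ hτ
    rcases (Finset.univ.filter fun c : K => τ c = c + 1).eq_empty_or_nonempty with he | ⟨c₀, hc₀⟩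
    · simp [he]
    rcases (Subalgebra.isSimpleOrder_of_finrank_prime F K hp).eq_bot_or_eq_top
        (AlgHom.equalizer τ (AlgHom.id F K)) with hE | hE
    · refine le_trans (Finset.card_le_card (t := Finset.univ.image fun a => c₀ + algebraMap F K a) ?_)
        (Finset.card_image_le.trans (by simp [hq]))
      intro c hc
      simp only [Finset.mem_filter, Finset.mem_univ, true_and] at hc hc₀
      have : c - c₀ ∈ AlgHom.equalizer τ (AlgHom.id F K) := by
        show τ (c - c₀) = c - c₀
        rw [map_sub, hc, hc₀]; ring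
      rw [hE] at this
      obtain ⟨a, ha⟩ := Algebra.mem_bot.mp this
      exact Finset.mem_image.mpr ⟨a, Finset.mem_univ _, by rw [ha]; ring⟩
    · exfalso
      simp only [hT, Finset.mem_filter, Finset.mem_univ, true_and] at hτ
      refine hτ (AlgHom.ext fun x => ?_)
      have hx : x ∈ AlgHom.equalizer τ (AlgHom.id F K) := by rw [hE]; exact Algebra.mem_top
      exact hx
  have hcover : (Finset.univ : Finset K) ⊆ Finset.univ.image (algebraMap F K) ∪
      T.biUnion fun τ => Finset.univ.filter fun c : K => τ c = c + 1 := by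
    intro c _
    by_cases hc : c ∈ Set.range (algebraMap F K)
    · obtain ⟨a, ha⟩ := hc
      exact Finset.mem_union_left _ (Finset.mem_image.mpr ⟨a, Finset.mem_univ _, ha⟩)
    · obtain ⟨τ, hτ⟩ := hh c hc
      refine Finset.mem_union_right _ (Finset.mem_biUnion.mpr ⟨τ, ?_, by simp [hτ]⟩)
      simp only [hT, Finset.mem_filter, Finset.mem_univ, true_and]
      intro e
      rw [e, AlgHom.id_apply] at hτ
      exact one_ne_zero (add_eq_left.mp hτ.symm)
  have h1 := (Finset.card_le_card hcover).trans (Finset.card_union_le _ _)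
  have h2 : (T.biUnion fun τ => Finset.univ.filter fun c : K => τ c = c + 1).card ≤ (r - 1) * q :=
    Finset.card_biUnion_le.trans ((Finset.sum_le_card_nsmul _ _ q hsol).trans
      (by rw [smul_eq_mul]; exact Nat.mul_le_mul_right q hTcard))
  have h3 : (Finset.univ.image (algebraMap F K)).card ≤ q := Finset.card_image_le.trans (by simp [hq])
  rw [Finset.card_univ, Module.card_eq_pow_finrank (K := F), ← hr, ← hq] at h1
  have hr2 : 2 ≤ r := hp.two_le
  have hq2 : 2 ≤ q := Fintype.one_lt_card
  obtain ⟨r', hr'⟩ : ∃ r', r = r' + 2 := ⟨r - 2, by omega⟩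
  have h4 : q ^ (r' + 2) ≤ (r' + 2) * q := by
    rw [← hr']
    calc q ^ r ≤ q + (r - 1) * q := by omega
      _ = r * q := by rw [hr']; simp; ring
  rw [pow_succ] at h4
  have h5 : q ^ (r' + 1) ≤ r' + 2 := Nat.le_of_mul_le_mul_right h4 (by omega)
  rcases r' with _ | r'
  · simp at h5
    exact hne ⟨by omega, hr'⟩
  · have h6 : r' + 1 + 2 < 2 ^ (r' + 1 + 1) := by
      have := Nat.lt_two_pow_self (n := r' + 1)
      have h7 : 2 ≤ 2 ^ (r' + 1) := Nat.le_self_pow (by omega) 2
      rw [pow_succ 2 (r' + 1)]
      omega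
    have h8 : 2 ^ (r' + 1 + 1) ≤ q ^ (r' + 1 + 1) := Nat.pow_le_pow_left hq2 _
    omega

/-- A group containing the determinant-one `K`-linear maps and a map which is not semilinear
contains every transvection. -/
theorem hasTv_of_not_semi (h : Hyp G K) (hns : ∃ g ∈ G, ¬ IsSemi K g) :
    ∀ (a : V) (θ : V →ₗ[F] F), θ a = 0 → HasTv G a θ := by
  by_cases hbin : Fintype.card F = 2 ∧ finrank F K = 2
  · obtain ⟨hF, hr⟩ := hbin
    by_cases hall : ∃ u : V, u ≠ 0 ∧ ∀ X : Module.End F K, X ∈ multipliers G u
    · obtain ⟨u, hu, hall⟩ := hall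
      exact h.hasTv_of_multipliers hu hall
    have hM : ∀ u : V, u ≠ 0 → ∀ X ∈ multipliers G u, ∃ k : K, X = LinearMap.mulLeft F k :=
      fun u hu => (h.multipliers_dichotomy hu).resolve_left fun e => hall ⟨u, hu, e⟩
    exfalso
    obtain ⟨c, hc⟩ : ∃ c : K, c ∉ Set.range (algebraMap F K) := by
      by_contra hh
      simp only [not_exists, not_not] at hh
      have hle := LinearMap.finrank_range_le (Algebra.linearMap F K)
      rw [LinearMap.range_eq_top.mpr (show Function.Surjective (Algebra.linearMap F K) from hh), finrank_top, Module.finrank_self] at hle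
      omega
    rcases eq_or_ne (finrank K V) 2 with hm | hm
    · exact h.not_semi_false_two hF hr hm hc hns hM
    · have := h.two_le
      exact h.not_semi_false_three hF hr (by omega) hc hns hM
  · obtain ⟨c, hc, hgood⟩ := exists_good h.prime hbin
    exact h.hasTv_generic hns hc hgood

end CfsgLib.ExtFieldMax
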