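import Mathlib
import Cfsg.Prelude.Def_GeometricClasses
import Cfsg.Agent.Lib.ExtFieldMax.BinaryTwo
import Cfsg.Agent.Lib.ClassicalMax.Tv
import Cfsg.Agent.Lib.Aschbacher.Proper

/-!
Normalisers of extension fields of prime degree are maximal in the general and special linear
groups, in matrix form.
-/

set_option autoImplicit false
set_option linter.unusedSectionVars false
set_option linter.unusedVariables false
set_option linter.style.haveILetI false

namespace CfsgLib.ExtFieldMax

open Module Matrix Cfsg.Geo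
open scoped MatrixGroups

variable {F : Type*} [Field F] [Fintype F] {n r : ℕ}
  {K : Subalgebra F (Matrix (Fin n) (Fin n) F)}

/-- A field subalgebra as a field. -/
@[reducible] noncomputable def fieldOf (hn : 0 < n) (hK : IsFieldSubalgebra r K) : Field ↥K :=
  haveI : Nonempty (Fin n) := ⟨⟨0, hn⟩⟩
  let i1 : CommRing ↥K :=
    { (inferInstance : Ring ↥K) with mul_comm := fun x y => Subtype.ext (hK.comm x x.2 y y.2) }
  IsField.toField (R := ↥K)
    { exists_pair_ne := ⟨0, 1, fun e => zero_ne_one (α := Matrix (Fin n) (Fin n) F) (congrArg Subtype.val e)⟩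
      mul_comm := fun x y => Subtype.ext (hK.comm x x.2 y y.2)
      mul_inv_cancel := fun {x} hx => by
        obtain ⟨y, hy, hxy⟩ := hK.inv x x.2 fun e => hx (Subtype.ext e)
        exact ⟨⟨y, hy⟩, Subtype.ext hxy⟩ }

/-- The natural action of a subalgebra of matrices on vectors. -/
@[reducible] def vecModule (K : Subalgebra F (Matrix (Fin n) (Fin n) F)) : Module ↥K (Fin n → F) where
  smul k v := (k : Matrix (Fin n) (Fin n) F) *ᵥ v
  one_smul v := one_mulVec v
  mul_smul a b v := (mulVec_mulVec v _ _).symm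
  smul_zero a := mulVec_zero _
  smul_add a v w := mulVec_add _ _ _
  add_smul a b v := add_mulVec _ _ _
  zero_smul v := zero_mulVec v

/-- Invertible matrices as linear automorphisms. -/
noncomputable def toAut : GL (Fin n) F ≃* ((Fin n → F) ≃ₗ[F] (Fin n → F)) :=
  Matrix.GeneralLinearGroup.toLin.trans (LinearMap.GeneralLinearGroup.generalLinearEquiv F _)

lemma toAut_apply (g : GL (Fin n) F) (v : Fin n → F) :
    toAut g v = (g : Matrix (Fin n) (Fin n) F) *ᵥ v := rfl

variable (hr : r.Prime) (hrn : r ∣ n) (hlt : r < n) (hK : IsFieldSubalgebra r K)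
include hr hrn hlt hK

/-- An overgroup of the determinant-one normaliser with a determinant-one member outside the
normaliser contains the special linear group. -/
theorem sl_le (M : Subgroup (GL (Fin n) F))
    (hle : subalgebraNormalizer K ⊓ specialLinear (Fin n) F ≤ M)
    (hne : ∃ g ∈ M, g ∉ subalgebraNormalizer K) :
    specialLinear (Fin n) F ≤ M := by
  classical
  letI iK : Field ↥K := fieldOf (by omega) hK
  letI iV : Module ↥K (Fin n → F) := vecModule K
  haveI : IsScalarTower F ↥K (Fin n → F) := ⟨fun a k v => smul_mulVec a _ v⟩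
  haveI : FiniteDimensional F ↥K := Module.finite_of_finrank_pos (by
    have := hK.finrank_eq
    have hp := hr.pos
    exact lt_of_lt_of_eq hp this.symm)
  haveI : FiniteDimensional ↥K (Fin n → F) := Module.Finite.of_restrictScalars_finite F _ _
  have hsmul : ∀ (k : ↥K) (v : Fin n → F), k • v = (k : Matrix (Fin n) (Fin n) F) *ᵥ v :=
    fun k v => rfl
  have hfr : finrank F ↥K = r := hK.finrank_eq
  have hmul := Module.finrank_mul_finrank F ↥K (Fin n → F)
  rw [hfr, Module.finrank_fin_fun] at hmul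
  have htwo : 2 ≤ finrank ↥K (Fin n → F) := by
    by_contra hh
    have : r * finrank ↥K (Fin n → F) ≤ r * 1 := Nat.mul_le_mul_left r (by omega)
    omega
  have hyp : Hyp (M.map (toAut (F := F) (n := n)).toMonoidHom) ↥K := by
    refine ⟨by rw [hfr]; exact hr, htwo, fun e he => ?_⟩
    set g : GL (Fin n) F := toAut.symm (e.restrictScalars F) with hg
    have hge : ∀ v, (g : Matrix (Fin n) (Fin n) F) *ᵥ v = e v := fun v => by
      rw [← toAut_apply, hg, MulEquiv.apply_symm_apply]; rfl
    refine ⟨g, hle ⟨?_, ?_⟩, by simp [hg]⟩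
    · intro k
      have hcomm : ∀ k : ↥K, (g : Matrix (Fin n) (Fin n) F) * k = (k : Matrix (Fin n) (Fin n) F) * g :=
        fun k => Matrix.ext_of_mulVec_single fun i => by
          rw [← mulVec_mulVec, ← mulVec_mulVec, hge, hge, ← hsmul, ← hsmul, map_smul]
      have hinv : ∀ k : ↥K, (g : Matrix (Fin n) (Fin n) F) * k *
          ((g⁻¹ : GL (Fin n) F) : Matrix (Fin n) (Fin n) F) = k := fun k => by
        rw [hcomm, Matrix.mul_assoc, ← Units.val_mul, mul_inv_cancel, Units.val_one, Matrix.mul_one]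
      constructor
      · intro hk; rw [hinv ⟨k, hk⟩]; exact hk
      · intro hk
        have h2 := (Units.mul_right_inj g).mp ((Units.mul_left_inj g⁻¹).mp (hinv ⟨_, hk⟩))
        rw [← h2]; exact hk
    · show g ∈ specialLinear (Fin n) F
      rw [specialLinear, MonoidHom.mem_ker]
      refine Units.ext ?_
      have h1 : (g : Matrix (Fin n) (Fin n) F) =
          LinearMap.toMatrix' ((e : (Fin n → F) →ₗ[↥K] (Fin n → F)).restrictScalars F) :=
        Matrix.ext_of_mulVec_single fun i => by
          rw [hge, LinearMap.toMatrix'_mulVec]; rfl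
      rw [GeneralLinearGroup.val_det_apply, h1, LinearMap.det_toMatrix',
        LinearMap.det_restrictScalars]
      exact he
  obtain ⟨g₀, hg₀, hg₀N⟩ := hne
  have hns : ∃ g ∈ M.map (toAut (F := F) (n := n)).toMonoidHom, ¬ IsSemi ↥K g := by
    refine ⟨toAut g₀, Subgroup.mem_map_of_mem _ hg₀, fun hs => hg₀N ?_⟩
    choose σ hσ using hs
    have hσg : ∀ k : ↥K, (g₀ : Matrix (Fin n) (Fin n) F) * k * ((g₀⁻¹ : GL (Fin n) F) : Matrix (Fin n) (Fin n) F) = σ k := by
      intro k
      have h1 : (g₀ : Matrix (Fin n) (Fin n) F) * k = (σ k : Matrix (Fin n) (Fin n) F) * g₀ :=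
        Matrix.ext_of_mulVec_single fun i => by
          rw [← mulVec_mulVec, ← mulVec_mulVec, ← toAut_apply g₀, ← toAut_apply g₀]
          exact hσ k _
      rw [h1, Matrix.mul_assoc, ← Units.val_mul, mul_inv_cancel, Units.val_one, Matrix.mul_one]
    haveI : Finite ↥K := Module.finite_of_finite F
    have hinj : Function.Injective σ := fun a b hab => by
      have h1 := (hσg a).trans ((congrArg Subtype.val hab).trans (hσg b).symm)
      exact Subtype.ext ((Units.mul_right_inj g₀).mp ((Units.mul_left_inj g₀⁻¹).mp h1))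
    intro k
    constructor
    · intro hk; rw [hσg ⟨k, hk⟩]; exact (σ _).2
    · intro hk
      obtain ⟨j, hj⟩ := (Finite.injective_iff_surjective.mp hinj) ⟨_, hk⟩
      have h1 := (hσg j).trans (congrArg Subtype.val hj)
      rw [show k = (j : Matrix (Fin n) (Fin n) F) from
        ((Units.mul_right_inj g₀).mp ((Units.mul_left_inj g₀⁻¹).mp h1)).symm]
      exact j.2
  refine CfsgLib.ClassicalMax.sl_le_of_tvGL fun u φ hφ => ?_
  let θ : (Fin n → F) →ₗ[F] F :=
    { toFun := fun x => φ ⬝ᵥ x
      map_add' := fun x y => dotProduct_add _ _ _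
      map_smul' := fun a x => dotProduct_smul _ _ _ }
  obtain ⟨g, hg, hgx⟩ := hasTv_of_not_semi hyp hns u θ hφ
  obtain ⟨m, hm, rfl⟩ := Subgroup.mem_map.mp hg
  have : CfsgLib.ClassicalMax.tvGL u φ = m := CfsgLib.ClassicalMax.gl_ext_mulVec fun x => by
    rw [CfsgLib.ClassicalMax.tvGL_mulVec hφ, ← toAut_apply]
    exact (hgx x).symm
  rw [this]; exact hm

/-- Some member of the normaliser has any prescribed determinant. -/
theorem exists_normalizer_det (d : Fˣ) :
    ∃ g ∈ subalgebraNormalizer K, GeneralLinearGroup.det g = d := by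
  classical
  letI iK : Field ↥K := fieldOf (by omega) hK
  letI iV : Module ↥K (Fin n → F) := vecModule K
  haveI : IsScalarTower F ↥K (Fin n → F) := ⟨fun a k v => smul_mulVec a _ v⟩
  haveI : FiniteDimensional F ↥K := Module.finite_of_finrank_pos
    (lt_of_lt_of_eq hr.pos hK.finrank_eq.symm)
  haveI : FiniteDimensional ↥K (Fin n → F) := Module.Finite.of_restrictScalars_finite F _ _
  haveI : Finite ↥K := Module.finite_of_finite F
  obtain ⟨a, ha⟩ := FiniteField.norm_surjective F ↥K (d : F)
  set v₀ : Fin n → F := Pi.single (⟨0, by omega⟩ : Fin n) 1 with hv₀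
  have hv0 : v₀ ≠ 0 := fun e => by
    have := congrFun e ⟨0, by omega⟩
    simp [hv₀] at this
  obtain ⟨ξ, -, hξ⟩ := exists_functional (K := ↥K) (W := ⊥) (x := v₀) (by simpa using hv0)
  set f : (Fin n → F) →ₗ[↥K] (Fin n → F) := LinearMap.transvection ((a - 1) • ξ) v₀ with hf
  have hdet : LinearMap.det f = a := by
    rw [hf, LinearMap.transvection.det]; simp [hξ]
  set A : Matrix (Fin n) (Fin n) F := LinearMap.toMatrix' (f.restrictScalars F) with hA
  have hAd : A.det = d := by
    rw [hA, LinearMap.det_toMatrix', LinearMap.det_restrictScalars, hdet, ha]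
  let g : GL (Fin n) F := GeneralLinearGroup.mkOfDetNeZero A (by rw [hAd]; exact d.ne_zero)
  have hgv : (g : Matrix (Fin n) (Fin n) F) = A := rfl
  refine ⟨g, ?_, Units.ext (by rw [GeneralLinearGroup.val_det_apply, hgv, hAd])⟩
  have hcomm : ∀ k : ↥K, (g : Matrix (Fin n) (Fin n) F) * k = (k : Matrix (Fin n) (Fin n) F) * g :=
    fun k => Matrix.ext_of_mulVec_single fun i => by
      rw [← mulVec_mulVec, ← mulVec_mulVec, hgv, hA, LinearMap.toMatrix'_mulVec,
        LinearMap.toMatrix'_mulVec]
      exact map_smul f k _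
  have hinv : ∀ k : ↥K, (g : Matrix (Fin n) (Fin n) F) * k *
      ((g⁻¹ : GL (Fin n) F) : Matrix (Fin n) (Fin n) F) = k := fun k => by
    rw [hcomm, Matrix.mul_assoc, ← Units.val_mul, mul_inv_cancel, Units.val_one, Matrix.mul_one]
  intro k
  constructor
  · intro hk; rw [hinv ⟨k, hk⟩]; exact hk
  · intro hk
    have h1 := hinv ⟨_, hk⟩
    have h2 := (Units.mul_right_inj g).mp ((Units.mul_left_inj g⁻¹).mp h1)
    rw [← h2]; exact hk

theorem isMaximalIn_sl :
    IsMaximalIn (specialLinear (Fin n) F) (subalgebraNormalizer K ⊓ specialLinear (Fin n) F) := by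
  have hn3 : 3 ≤ Fintype.card (Fin n) := by
    rw [Fintype.card_fin]
    have := hr.two_le
    omega
  have hnot := CfsgLib.Asch.sl_not_le_extField hn3 hr.two_le hK
  refine ⟨lt_of_le_of_ne inf_le_right fun e => hnot (e ▸ inf_le_left), fun M h1 h2 => ?_⟩
  by_cases h3 : M ≤ subalgebraNormalizer K
  · exact Or.inl (le_antisymm (le_inf h3 h2) h1)
  · obtain ⟨g, hg, hgN⟩ := SetLike.not_le_iff_exists.mp h3
    exact Or.inr (le_antisymm h2 (sl_le hr hrn hlt hK M h1 ⟨g, hg, hgN⟩))

theorem isCoatom_normalizer : IsCoatom (subalgebraNormalizer K) := by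
  have hn3 : 3 ≤ Fintype.card (Fin n) := by
    rw [Fintype.card_fin]
    have := hr.two_le
    omega
  have hnot := CfsgLib.Asch.sl_not_le_extField hn3 hr.two_le hK
  refine ⟨fun e => hnot (e ▸ le_top), fun M hM => ?_⟩
  obtain ⟨g, hg, hgN⟩ := SetLike.exists_of_lt hM
  have hsl := sl_le hr hrn hlt hK M (inf_le_left.trans hM.le) ⟨g, hg, hgN⟩
  rw [eq_top_iff]
  intro x _
  obtain ⟨m, hm, hmd⟩ := exists_normalizer_det hr hrn hlt hK (GeneralLinearGroup.det x)
  have h1 : x * m⁻¹ ∈ specialLinear (Fin n) F := by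
    rw [specialLinear, MonoidHom.mem_ker, map_mul, map_inv, hmd, mul_inv_cancel]
  have h2 := M.mul_mem (hsl h1) (hM.le hm)
  rwa [inv_mul_cancel_right] at h2

end CfsgLib.ExtFieldMax
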